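import Cfsg.Agent.Lib.Spor.Co3Uniq.CloDefs

/-! Checks of the closure of seven double cosets. -/

set_option autoImplicit false
set_option maxRecDepth 100000
set_option maxHeartbeats 4000000

namespace Cfsg.Agent.Spor.Co3Uniq

open Cos

theorem fact_ok1 : ∀ j < 16, 8 ≤ j → allBlock chkFact 4505 200 j = true := by
  intro j hj hj'
  interval_cases j <;> decide +kernel

end Cfsg.Agent.Spor.Co3Uniq
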