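import Cfsg.Agent.Lib.Spor.Co3Uniq.CloDefs

/-! Checks of the closure of seven double cosets. -/

set_option autoImplicit false
set_option maxRecDepth 100000
set_option maxHeartbeats 4000000

namespace Cfsg.Agent.Spor.Co3Uniq

open Cos

theorem fin_ok : ∀ q < 4410, chkFin q = true := by
  refine of_blocks (size := 450) (b := 10) (by decide) (by decide) fun j hj => ?_
  interval_cases j <;> decide +kernel

theorem clN_eq : clN = 4505 ∧ gamL.length = 7 := by decide

end Cfsg.Agent.Spor.Co3Uniq
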