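import Cfsg.Agent.Lib.Spor.Co3Uniq.Rels
import Cfsg.Agent.Lib.Spor.Co3Uniq.CloChk0
import Cfsg.Agent.Lib.Spor.Co3Uniq.CloChk1
import Cfsg.Agent.Lib.Spor.Co3Uniq.CloChk2
import Cfsg.Agent.Lib.Spor.Co3Uniq.CloChk3

/-!
Seven double cosets of the centraliser are closed under the swap, so they bound the generated group.
-/

set_option autoImplicit false
set_option maxRecDepth 100000
set_option maxHeartbeats 1000000

namespace Cfsg.Agent.Spor.Co3Uniq

open Cos

/-- The path of a representative. -/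
noncomputable def pathG (fuel k : ℕ) : List ℕ :=
  Nat.rec (motive := fun _ => ℕ → List ℕ) (fun _ => [])
    (fun _ r k => bif Nat.beq k 0 then [] else r (gamL.getD k (0, 0)).1 ++ [(gamL.getD k (0, 0)).2]) fuel k

theorem path_ok : pathG 8 0 = [] ∧ (∀ k < 7, k = 0 ∨
    pathG 8 k = pathG 8 (gamL.getD k (0, 0)).1 ++ [(gamL.getD k (0, 0)).2]) ∧
    gamL.getD 1 (1, 1) = (0, 0) := by
  decide +kernel

theorem fact_ok (f : ℕ) (hf : f < 4505) : chkFact f = true := by
  refine of_allBlock (by norm_num : 0 < 200) (fun j hj => ?_) hf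
  have hb : j < 23 := by omega
  rcases Nat.lt_or_ge j 8 with h0 | h0
  · exact fact_ok0 j h0 (Nat.zero_le _)
  rcases Nat.lt_or_ge j 16 with h1 | h1
  · exact fact_ok1 j h1 h0
  · exact fact_ok2 j hb h1

namespace Rels

variable {P : Type*} [Group P] (R : Rels P)

/-- A representative. -/
noncomputable def gam (k : ℕ) : P := ((pathG 8 k).map fun a => R.E a * R.X).prod

theorem E_zero : R.E 0 = 1 := by rw [E, show cel 0 = 1 from Subtype.ext el_zero, map_one]

theorem gam_zero : R.gam 0 = 1 := by rw [gam, path_ok.1, List.map_nil, List.prod_nil]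

theorem gam_succ {k : ℕ} (hk : k < 7) (h0 : k ≠ 0) :
    R.gam k = R.gam (gamL.getD k (0, 0)).1 * R.E (gamL.getD k (0, 0)).2 * R.X := by
  rw [gam, (path_ok.2.1 k hk).resolve_left h0, List.map_append, List.prod_append, gam]
  simp [mul_assoc]

theorem gam_one : R.gam 1 = R.X := by
  have h := R.gam_succ (k := 1) (by norm_num) one_ne_zero
  have e : gamL.getD 1 (0, 0) = (0, 0) := by decide +kernel
  rw [e, R.gam_zero, one_mul, R.E_zero, one_mul] at h
  exact h

/-- What a fact says. -/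
def Valid (f : ℕ) : Prop :=
  if opF f < 5 then tgtF f < 7 ∧
    R.gam (srcF f) * R.E (clA.at f) * R.X = R.E (clL.at f) * R.gam (tgtF f) * R.E (clR.at f)
  else srcF f < 7 ∧ R.gam (srcF f) * R.E (clA.at f) = R.E (clL.at f) * R.gam (srcF f)

theorem edge_of {f g : ℕ} (h : edgeF f g = true) (ih : ∀ g < f, srcF g < 7 ∧ R.Valid g) :
    srcF g < 7 ∧ tgtF g < 7 ∧
      R.gam (srcF g) * R.E (clA.at g) * R.X = R.E (clL.at g) * R.gam (tgtF g) * R.E (clR.at g) := by
  rw [edgeF, Bool.and_eq_true] at h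
  obtain ⟨hs, hv⟩ := ih g (Nat.le_of_ble_eq_true h.1)
  rw [Valid, if_pos (show opF g < 5 from Nat.le_of_ble_eq_true h.2)] at hv
  exact ⟨hs, hv⟩

theorem valid : ∀ f < 4505, srcF f < 7 ∧ R.Valid f := by
  intro f
  induction f using Nat.strong_induction_on with
  | _ f ih' =>
    intro hf
    have ih : ∀ g < f, srcF g < 7 ∧ R.Valid g := fun g hg => ih' g hg (hg.trans hf)
    have hX : R.X⁻¹ = R.X := inv_eq_of_mul_eq_one_right R.sq
    have h := fact_ok f hf
    simp only [chkFact, Bool.or_eq_true] at h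
    rcases h with (h | h) | h
    · simp only [chkBasic, Bool.or_eq_true, Bool.and_eq_true, Nat.beq_eq, beq_iff_eq] at h
      rcases h with (h | h) | h
      · obtain ⟨⟨⟨⟨⟨hop, hlt⟩, hk⟩, hg⟩, hl⟩, hr⟩ := h
        have hlt' := Nat.le_of_ble_eq_true hlt
        have hk' : tgtF f < 7 := Nat.le_of_ble_eq_true hk
        refine ⟨by omega, ?_⟩
        rw [Valid, if_pos (by omega), hl, hr, R.E_zero, one_mul, mul_one]
        refine ⟨hk', ?_⟩
        rw [R.gam_succ hk' (by omega), hg]
      · obtain ⟨⟨⟨⟨⟨⟨hop, h1⟩, hs⟩, ht⟩, ha⟩, hr⟩, hc⟩ := h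
        obtain ⟨s1, t1, e⟩ := R.edge_of h1 ih
        have hl := R.eq_of_chk hc
        simp only [List.map_cons, List.map_nil, List.prod_cons, List.prod_nil, mul_one] at hl
        refine ⟨hs ▸ t1, ?_⟩
        rw [Valid, if_pos (by omega), hs, ht, ha, hr, eq_inv_of_mul_eq_one_left hl]
        refine ⟨s1, ?_⟩
        calc R.gam (tgtF (oneF f)) * R.E (clR.at (oneF f)) * R.X
            = (R.E (clL.at (oneF f)))⁻¹ *
              (R.E (clL.at (oneF f)) * R.gam (tgtF (oneF f)) * R.E (clR.at (oneF f))) * R.X⁻¹ := by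
              rw [hX]; group
          _ = _ := by rw [← e]; group
      · obtain ⟨⟨⟨⟨⟨⟨⟨⟨⟨hop, h1⟩, h2⟩, hns⟩, hs⟩, hs2⟩, ht⟩, hr⟩, hca⟩, hcl⟩ := h
        obtain ⟨s1, t1, e⟩ := R.edge_of h1 ih
        obtain ⟨s2, hv⟩ := ih _ (Nat.le_of_ble_eq_true h2)
        have hns' : ¬ opF (twoF f) < 5 := fun h' => by
          rw [show Nat.blt (opF (twoF f)) 5 = true from Nat.ble_eq_true_of_le h'] at hns
          exact Bool.noConfusion hns
        rw [Valid, if_neg hns'] at hv
        have ea := R.eq_of_chk hca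
        have el' := R.eq_of_chk hcl
        simp only [List.map_cons, List.map_nil, List.prod_cons, List.prod_nil, mul_one] at ea el'
        refine ⟨hs ▸ s1, ?_⟩
        rw [Valid, if_pos (by omega), ea, el', ht, hr]
        refine ⟨t1, ?_⟩
        rw [← mul_assoc, hs2, hv.2, ← hs2, hs]
        simp only [mul_assoc] at e ⊢
        rw [e]
    · simp only [chkTri, Bool.and_eq_true, Nat.beq_eq] at h
      obtain ⟨⟨⟨⟨⟨⟨⟨⟨⟨⟨⟨⟨hop, h1⟩, h2⟩, hj⟩, hs⟩, hm⟩, ht⟩, hca⟩, hcl⟩, hcr⟩, hcb⟩, hcs⟩, hcR⟩ := h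
      obtain ⟨s1, t1, e⟩ := R.edge_of h1 ih
      obtain ⟨s2, t2, e'⟩ := R.edge_of h2 ih
      have hp := R.pair (Nat.le_of_ble_eq_true hj)
      have ea := R.eq_of_chk hca
      have el' := R.eq_of_chk hcl
      have er := R.eq_of_chk hcr
      have eR := R.eq_of_chk hcR
      simp only [List.map_cons, List.map_nil, List.prod_cons, List.prod_nil, mul_one] at ea el' er eR
      have hb := R.carry' hcb hcs
      refine ⟨hs ▸ s1, ?_⟩
      rw [Valid, if_pos (by omega), hs, ht, ea, el']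
      refine ⟨t2, mul_right_cancel (b := R.E (ent pairL (pairF f) 4)) ?_⟩
      calc R.gam (srcF (oneF f)) * (R.E (clA.at (oneF f)) * R.E (ent pairL (pairF f) 3)) * R.X *
            R.E (ent pairL (pairF f) 4)
          = R.gam (srcF (oneF f)) * R.E (clA.at (oneF f)) *
              (R.E (ent pairL (pairF f) 3) * R.X * R.E (ent pairL (pairF f) 4)) := by simp only [mul_assoc]
        _ = R.gam (srcF (oneF f)) * R.E (clA.at (oneF f)) * R.X *
              (R.E (ent pairL (pairF f) 2) * R.X) := by rw [← hp]; simp only [mul_assoc]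
        _ = R.E (clL.at (oneF f)) * R.gam (srcF (twoF f)) *
              (R.E (clA.at (twoF f)) * R.E (clB.at f)) * R.X := by
              rw [e, hm, ← er]; simp only [mul_assoc]
        _ = R.E (clL.at (oneF f)) * (R.gam (srcF (twoF f)) * R.E (clA.at (twoF f)) * R.X) * R.E (clAB.at f) := by
              simp only [mul_assoc]
              rw [hb]
        _ = _ := by
              rw [e']
              simp only [mul_assoc]
              rw [← eR]
    · simp only [chkStab, Bool.and_eq_true, Bool.or_eq_true, Nat.beq_eq] at h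
      obtain ⟨-, (h | h) | h⟩ := h
      · obtain ⟨⟨hop, hs⟩, hl⟩ := h
        refine ⟨by omega, ?_⟩
        rw [Valid, if_neg (by omega), hs, hl, R.gam_zero, one_mul, mul_one]
        exact ⟨by norm_num, rfl⟩
      · obtain ⟨⟨⟨hop, hs⟩, hcb⟩, hcs⟩ := h
        refine ⟨by omega, ?_⟩
        rw [Valid, if_neg (by omega), hs, R.gam_one]
        exact ⟨by norm_num, R.carry hcb hcs⟩
      · obtain ⟨⟨⟨⟨⟨⟨⟨⟨⟨⟨hop, h1⟩, h2⟩, hss⟩, htt⟩, hs⟩, hca⟩, hcb⟩, hcs⟩, hcl⟩, hcA⟩ := h
        obtain ⟨s1, t1, e⟩ := R.edge_of h1 ih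
        obtain ⟨s2, t2, e'⟩ := R.edge_of h2 ih
        have ea := R.eq_of_chk hca
        have el' := R.eq_of_chk hcl
        have eA := R.eq_of_chk hcA
        simp only [List.map_cons, List.map_nil, List.prod_cons, List.prod_nil, mul_one] at ea el' eA
        refine ⟨hs ▸ t1, ?_⟩
        rw [Valid, if_neg (by omega), hs]
        refine ⟨t1, mul_left_cancel (a := R.E (clL.at (oneF f))) (mul_right_cancel (b := R.E (clR.at (twoF f))) ?_)⟩
        calc R.E (clL.at (oneF f)) * (R.gam (tgtF (oneF f)) * R.E (clA.at f)) * R.E (clR.at (twoF f))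
            = R.E (clL.at (oneF f)) * R.gam (tgtF (oneF f)) * R.E (clR.at (oneF f)) * R.E (clAB.at f) := by
              simp only [mul_assoc]
              rw [eA]
          _ = R.gam (srcF (twoF f)) * R.E (clA.at (oneF f)) * R.X * R.E (clAB.at f) := by rw [← e, hss]
          _ = R.gam (srcF (twoF f)) * R.E (clA.at (twoF f)) * R.X := by
              rw [mul_assoc _ R.X, ← R.carry' hcb hcs, ea]
              simp only [mul_assoc]
          _ = R.E (clL.at (twoF f)) * R.gam (tgtF (oneF f)) * R.E (clR.at (twoF f)) := by rw [e', htt]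
          _ = _ := by rw [← el']; simp only [mul_assoc]

theorem mul_gam_X {i : ℕ} (hi : i < 7) (c : C) :
    ∃ k < 7, ∃ a b : C, R.gam i * R.Ψ c * R.X = R.Ψ a * R.gam k * R.Ψ b := by
  obtain ⟨m, hm, b0, hb0, e0⟩ := exists_tr c.2
  have h := fin_ok (i * 630 + m) (by omega)
  simp only [chkFin, force_eq, show (i * 630 + m) / 630 = i by omega, show (i * 630 + m) % 630 = m by omega,
    Bool.and_eq_true, Nat.beq_eq] at h
  obtain ⟨⟨⟨⟨hf, hop⟩, hs⟩, hc⟩, hb⟩ := h
  set f := clFin.at (i * 630 + m) % 8192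
  set b := clFin.at (i * 630 + m) / 8192
  have hf' : f < 4505 := clN_eq.1 ▸ Nat.le_of_ble_eq_true hf
  obtain ⟨-, hv⟩ := R.valid f hf'
  rw [Valid, if_pos (show opF f < 5 from Nat.le_of_ble_eq_true hop), hs] at hv
  have hb' : el b * e1 = e1 * el b := by simpa [e1] using prod_eq hb
  have hb0' : b0 * e1 = e1 * b0 := Subgroup.mem_centralizer_singleton_iff.1 (bL_le hb0)
  have hb0C : b0 ∈ C := LG.grp_le hb0
  let q : C := cel b * ⟨b0, hb0C⟩
  have hq : q.1 * e1 = e1 * q.1 := by
    show el b * b0 * e1 = e1 * (el b * b0)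
    rw [mul_assoc, hb0', ← mul_assoc, hb', mul_assoc]
  have hcq : R.Ψ c = R.E (clA.at f) * R.Ψ q := by
    rw [E, ← map_mul]
    refine congrArg R.Ψ (Subtype.ext ?_)
    show c.1 = el (clA.at f) * (el b * b0)
    have := prod_eq hc
    simp only [List.map_cons, List.map_nil, List.prod_cons, List.prod_nil, mul_one] at this
    rw [e0, this, mul_assoc]
  have hqX : R.Ψ q * R.X = R.X * R.Ψ ⟨sigM * q.1 * sigM, Sys.sigM_mem hq⟩ := by
    rw [show R.Ψ q * R.X = R.X * (R.X * R.Ψ q) * R.X by rw [← mul_assoc R.X R.X, R.sq, one_mul], R.conj q hq]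
    simp only [mul_assoc, R.sq, mul_one]
  refine ⟨_, hv.1, cel (clL.at f), cel (clR.at f) * ⟨sigM * q.1 * sigM, Sys.sigM_mem hq⟩, ?_⟩
  rw [map_mul, hcq, ← mul_assoc, mul_assoc _ (R.Ψ q) R.X, hqX, ← mul_assoc, hv.2]
  simp only [E, mul_assoc]

/-- The group generated by the copy and the swap. -/
def grp : Subgroup P := Subgroup.closure (Set.range R.Ψ ∪ {R.X})

theorem exists_of_mem [Finite P] {y : P} (hy : y ∈ R.grp) :
    ∃ k < 7, ∃ a b : C, y = R.Ψ a * R.gam k * R.Ψ b := by
  rw [grp, ← Subgroup.mem_toSubmonoid, Subgroup.closure_toSubmonoid_of_finite] at hy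
  induction hy using Submonoid.closure_induction_right with
  | one => exact ⟨0, by norm_num, 1, 1, by rw [R.gam_zero, map_one, mul_one, mul_one]⟩
  | mul_right y _ z hz ih =>
    obtain ⟨k, hk, a, b, rfl⟩ := ih
    rcases hz with ⟨c, rfl⟩ | hz
    · exact ⟨k, hk, a, b * c, by rw [map_mul, mul_assoc]⟩
    · rw [Set.mem_singleton_iff.1 hz]
      obtain ⟨k', hk', a', b', e⟩ := R.mul_gam_X hk b
      refine ⟨k', hk', a * a', b', ?_⟩
      rw [map_mul, mul_assoc (R.Ψ a) (R.gam k), mul_assoc (R.Ψ a) _ R.X, e]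
      simp only [mul_assoc]

/-- The generated group has at most seven times the square of the centraliser's order elements. -/
theorem card_le [Finite P] : Nat.card R.grp ≤ 7 * (2903040 * 2903040) := by
  classical
  have : Finite C := Nat.finite_of_card_ne_zero (by rw [Co3Out.C_facts.2]; norm_num)
  let f : Fin 7 × C × C → P := fun z => R.Ψ z.2.1 * R.gam z.1 * R.Ψ z.2.2
  calc Nat.card R.grp ≤ Nat.card (Set.range f) :=
        Nat.card_mono (Set.toFinite _) fun y hy => by
          obtain ⟨k, hk, a, b, rfl⟩ := R.exists_of_mem hy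
          exact ⟨(⟨k, hk⟩, a, b), rfl⟩
    _ ≤ Nat.card (Fin 7 × C × C) := Nat.card_le_card_of_surjective _ Set.rangeFactorization_surjective
    _ = _ := by rw [Nat.card_prod, Nat.card_prod, Nat.card_fin, Co3Out.C_facts.2]

end Rels

end Cfsg.Agent.Spor.Co3Uniq
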