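import Cfsg.Agent.Lib.Spor.Cos.Bst

/-! Data for the uniqueness of a group on 552 points: the generators through the centraliser and the swap. -/

set_option autoImplicit false
set_option maxRecDepth 100000
set_option maxHeartbeats 4000000

namespace Cfsg.Agent.Spor.Co3Uniq

open Cos

/-- The generators as codes alternating with the swap. -/
def genL : List (List ℕ) := [[2885544], [1989668], [504526, 2364031], [0, 1197561, 858520], [75, 466562, 2150828, 545907, 0]]

end Cfsg.Agent.Spor.Co3Uniq
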