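import Cfsg.Agent.Lib.Spor.Co3Uniq.SigChk
import Cfsg.Agent.Lib.Spor.Co3Uniq.GenData

/-! The generators of the model as codes alternating with the swap. -/

set_option autoImplicit false
set_option maxRecDepth 100000
set_option maxHeartbeats 4000000

namespace Cfsg.Agent.Spor.Co3Uniq

open Cos

/-- The image of a point under codes alternating with the swap. -/
noncomputable def appG (L : List ℕ) (p : ℕ) : ℕ :=
  List.rec (motive := fun _ => ℕ) p
    (fun N rest r => bif rest.isEmpty then app N r else force (appS r) fun q => app N q) L

theorem gen_ok' : ((List.range 5).all fun s => !((genL.getD s []).isEmpty) && Co3Out.ptsA.all fun p =>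
    Nat.beq (appG (genL.getD s []) p) (Co3Out.actA.im p s)) = true := by
  decide +kernel

end Cfsg.Agent.Spor.Co3Uniq
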