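import Cfsg.Agent.Lib.Spor.Co3Uniq.Pin
import Cfsg.Agent.Lib.Spor.Co3Uniq.GenChk

/-! The model is generated by the centraliser and the swap. -/

set_option autoImplicit false
set_option maxRecDepth 100000

namespace Cfsg.Agent.Spor.Co3Uniq

open Cos Cos.Co3Out

/-- Codes alternating with the swap. -/
noncomputable def altG : List ℕ → M
  | [] => 1
  | [N] => el N
  | N :: N' :: L => el N * (sigM * altG (N' :: L))

theorem altG_mem : ∀ L, altG L ∈ Subgroup.closure (Set.range C.subtype ∪ {sigM})
  | [] => one_mem _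
  | [N] => Subgroup.subset_closure (Or.inl ⟨⟨el N, el_mem N⟩, rfl⟩)
  | N :: N' :: L => mul_mem (Subgroup.subset_closure (Or.inl ⟨⟨el N, el_mem N⟩, rfl⟩))
      (mul_mem (Subgroup.subset_closure (Or.inr rfl)) (altG_mem (N' :: L)))

theorem altG_apply : ∀ (L : List ℕ) (p : Fin actA.N), (pi (altG L) p : ℕ) = appG L p
  | [], p => by simp [altG, appG]
  | [N], p => by simp [altG, appG, el_apply]
  | N :: N' :: L, p => by
    rw [altG, map_mul, map_mul, Equiv.Perm.mul_apply, Equiv.Perm.mul_apply, el_apply, sigM_apply,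
      altG_apply (N' :: L) p]
    show _ = force (appS (appG (N' :: L) p)) fun q => app N q
    rw [force_eq]

theorem gen_top : Subgroup.closure (Set.range C.subtype ∪ {sigM}) = ⊤ := by
  refine top_le_iff.1 (g_gen ▸ (Subgroup.closure_le _).2 ?_)
  rintro _ ⟨s, hs, rfl⟩
  have h := List.all_eq_true.1 gen_ok' s (List.mem_range.2 hs)
  rw [Bool.and_eq_true] at h
  have e : g s = altG (genL.getD s []) := by
    refine (inv_mul_eq_one.1 (det ((altG (genL.getD s []))⁻¹ * g s) fun q hq => ?_)).symm
    rw [map_mul, map_inv, Equiv.Perm.mul_apply, Equiv.Perm.inv_eq_iff_eq]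
    refine Fin.ext ?_
    rw [altG_apply, homA.gen, Act.perm_apply _ act_inv hs]
    exact (Nat.eq_of_beq_eq_true (List.all_eq_true.1 h.2 _ hq)).symm
  rw [e]
  exact altG_mem _

end Cfsg.Agent.Spor.Co3Uniq
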