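import Cfsg.Agent.S0270
import Cfsg.Agent.S1175
import Cfsg.Agent.S1225
import Cfsg.Agent.Lib.Spor.Co3Uniq.Engine
import Cfsg.Agent.Lib.Spor.Co3Uniq.Gen

/-!
A group with the involution centraliser of the third Conway group is isomorphic to it.
-/

set_option autoImplicit false
set_option maxRecDepth 100000
set_option maxHeartbeats 1000000

namespace Cfsg.Agent.Spor.Co3Uniq

open Cos Cos.Co3Out

universe u

variable {G : Type u} [Group G]

theorem SpSix_simple : IsSimpleGroup Cfsg.Agent.Classical.SpSix.G0 := by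
  obtain ⟨e⟩ := Cfsg.Agent.Classical.SpSix.exists_mulEquiv (F := ZMod 2) (ZMod.card 2)
  have := Cfsg.Agent.S0270.result (F := ZMod 2) 3 (by norm_num) (fun h => absurd h (by norm_num))
  have : Nontrivial Cfsg.Agent.Classical.SpSix.G0 := e.toEquiv.nontrivial
  exact IsSimpleGroup.isSimpleGroup_of_surjective e.symm.toMonoidHom e.symm.surjective

namespace Sys

variable (S : Sys G) {x : G} (hx : S.Good x)
include hx

/-- The relations in the product with the model. -/
noncomputable def pairRels : Rels (G × M) where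
  Ψ := S.ψ.prod C.subtype
  X := (x, sigM)
  sq := Prod.ext hx.2.1 sigM_sq
  conj b hb := Prod.ext (hx.2.2 b hb) (modelRels.conj b hb)
  cube_h := Prod.ext (S.cube_h_eq hx) modelRels.cube_h
  cube_b := Prod.ext (S.cube_b_eq hx) modelRels.cube_b

/-- The group generated in the given one. -/
def G0 : Subgroup G := Subgroup.closure (Set.range S.ψ ∪ {x})

omit hx in
theorem psi_mem (c : C) : S.ψ c ∈ S.G0 (x := x) := Subgroup.subset_closure (Or.inl ⟨c, rfl⟩)

omit hx in
theorem x_mem : x ∈ S.G0 (x := x) := Subgroup.subset_closure (Or.inr rfl)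

omit hx in
theorem centralizer_le : Subgroup.centralizer ({S.t} : Set G) ≤ S.G0 (x := x) := fun y hy => by
  obtain ⟨c, rfl⟩ := S.exists_of_comm (Subgroup.mem_centralizer_singleton_iff.1 hy)
  exact S.psi_mem c

theorem conj_tu : (S.E betC * x) * S.t * (S.E betC * x)⁻¹ = S.t * S.u := by
  have hb1 : S.E betC * S.u = S.t * S.u * S.E betC := by
    simpa [S.E_tCode, u, mul_assoc] using S.eq_of_chk rel_facts.2.2.2.2.1
  rw [show S.E betC * x * S.t * (S.E betC * x)⁻¹ = S.E betC * (x * S.t * x⁻¹) * (S.E betC)⁻¹ by group, hx.1.1, hb1,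
    mul_inv_cancel_right]

/-- A subgroup normalised by the generators and meeting the centraliser trivially is trivial. -/
theorem eq_bot_of_trivial [Finite G] {N : Subgroup G} (hN : ∀ g ∈ S.G0 (x := x), ∀ n ∈ N, g * n * g⁻¹ ∈ N)
    (hC : ∀ n ∈ N, n * S.t = S.t * n → n = 1) : N = ⊥ := by
  have htm : S.t ∈ S.G0 (x := x) := S.psi_mem tC
  have fix : ∀ g ∈ S.G0 (x := x), ∀ n ∈ N, n * (g * S.t * g⁻¹) = g * S.t * g⁻¹ * n → n = 1 := fun g hg n hn e => by
    have h := hC (g⁻¹ * n * g) (by simpa using hN g⁻¹ (inv_mem hg) n hn) (by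
      calc g⁻¹ * n * g * S.t = g⁻¹ * (n * (g * S.t * g⁻¹)) * g := by group
        _ = _ := by rw [e]; group)
    rw [mul_assoc, inv_mul_eq_one] at h
    exact mul_eq_right.1 h.symm
  -- a fixed-point-free involution inverts everything
  have inv : ∀ g ∈ S.G0 (x := x), ∀ n ∈ N, g * S.t * g⁻¹ * n * (g * S.t * g⁻¹) = n⁻¹ := fun g hg => by
    set s := g * S.t * g⁻¹ with hs
    have hsm : s ∈ S.G0 (x := x) := mul_mem (mul_mem hg htm) (inv_mem hg)
    have hs2 : s * s = 1 := (S.invol_of_conj ⟨g, hs.symm⟩).1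
    have hsi : s⁻¹ = s := inv_eq_of_mul_eq_one_right hs2
    have hmem : ∀ n ∈ N, s * n * s ∈ N := fun n hn => by simpa [hsi] using hN s hsm n hn
    let φ : N →* N :=
      { toFun := fun n => ⟨s * n.1 * s, hmem n.1 n.2⟩
        map_one' := Subtype.ext (by simp [hs2])
        map_mul' := fun a b => Subtype.ext (by
          show s * (a.1 * b.1) * s = s * a.1 * s * (s * b.1 * s)
          rw [show s * a.1 * s * (s * b.1 * s) = s * a.1 * (s * s) * b.1 * s by group, hs2]
          group) }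
    have hfp : MonoidHom.FixedPointFree φ := fun n hn => Subtype.ext <| by
      refine fix g hg n.1 n.2 ?_
      have : s * n.1 * s = n.1 := congrArg Subtype.val hn
      rw [← hs]
      calc n.1 * s = s * n.1 * s * s := by rw [this]
        _ = _ := by rw [mul_assoc, hs2, mul_one]
    have hinvol : Function.Involutive φ := fun n => Subtype.ext (by
      show s * (s * n.1 * s) * s = n.1
      rw [show s * (s * n.1 * s) * s = s * s * n.1 * (s * s) by group, hs2]
      group)
    intro n hn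
    exact congrArg Subtype.val (congrFun (hfp.coe_eq_inv_of_involutive hinvol) ⟨n, hn⟩)
  refine (Subgroup.eq_bot_iff_forall _).2 fun n hn => ?_
  refine fix (S.E betC * x) (mul_mem (S.psi_mem _) S.x_mem) n hn ?_
  have h1 := inv 1 (one_mem _) n hn
  have h2 := inv x S.x_mem n⁻¹ (inv_mem hn)
  simp only [one_mul, inv_one, mul_one] at h1
  rw [hx.1.1, inv_inv] at h2
  rw [S.conj_tu hx]
  have hu2 : S.u * S.u = 1 := by simpa [u] using S.eq_of_chk inv_facts.1
  calc n * (S.t * S.u) = S.u * n⁻¹ * S.u * S.t * S.u := by rw [h2, ← mul_assoc]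
    _ = S.u * (S.t * n * S.t) * S.u * S.t * S.u := by rw [h1]
    _ = S.u * S.t * n * (S.t * S.u * S.t * S.u) := by group
    _ = S.t * S.u * n := by
        rw [show S.u * S.t = S.t * S.u from S.comm (cel u1C), show S.t * S.u * S.t * S.u = 1 by
          rw [mul_assoc S.t S.u S.t, show S.u * S.t = S.t * S.u from S.comm (cel u1C), ← mul_assoc S.t,
            S.t_facts.1, one_mul, hu2], mul_one]

theorem exists_iso_aux [Finite G] : ∃ π : S.G0 (x := x) →* M, Function.Bijective π := by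
  have : Finite C := Nat.finite_of_card_ne_zero (by rw [C_facts.2]; norm_num)
  let R := S.pairRels hx
  let p2 : R.grp →* M := (MonoidHom.snd G M).comp R.grp.subtype
  have hp2 : Function.Surjective p2 := MonoidHom.range_eq_top.1 (top_le_iff.1 (gen_top ▸ (Subgroup.closure_le _).2 (by
    rintro y (⟨c, rfl⟩ | hy)
    · exact ⟨⟨R.Ψ c, Subgroup.subset_closure (Or.inl ⟨c, rfl⟩)⟩, rfl⟩
    · rw [Set.mem_singleton_iff.1 hy]
      exact ⟨⟨R.X, Subgroup.subset_closure (Or.inr rfl)⟩, rfl⟩)))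
  have hmem : ∀ z ∈ R.grp, z.1 ∈ S.G0 (x := x) := fun z hz => by
    refine (Subgroup.closure_le ((S.G0 (x := x)).comap (MonoidHom.fst G M))).2 ?_ hz
    rintro y (⟨c, rfl⟩ | hy)
    · exact S.psi_mem c
    · rw [Set.mem_singleton_iff.1 hy]; exact S.x_mem
  let p1 : R.grp →* S.G0 (x := x) := ((MonoidHom.fst G M).comp R.grp.subtype).codRestrict _ fun z => hmem z.1 z.2
  have hp1 : Function.Surjective p1 := fun y => by
    have : y.1 ∈ (R.grp.map (MonoidHom.fst G M)) := by
      refine (Subgroup.closure_le _).2 ?_ y.2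
      rintro z (⟨c, rfl⟩ | hz)
      · exact ⟨R.Ψ c, Subgroup.subset_closure (Or.inl ⟨c, rfl⟩), rfl⟩
      · rw [Set.mem_singleton_iff.1 hz]
        exact ⟨R.X, Subgroup.subset_closure (Or.inr rfl), rfl⟩
    obtain ⟨z, hz, e⟩ := this
    exact ⟨⟨z, hz⟩, Subtype.ext e⟩
  have hR : Nat.card R.grp ≤ 7 * (2903040 * 2903040) := R.card_le
  have hcard : Nat.card M * Nat.card p2.ker = Nat.card R.grp := by
    rw [Subgroup.card_eq_card_quotient_mul_card_subgroup p2.ker,
      Nat.card_congr (QuotientGroup.quotientKerEquivOfSurjective p2 hp2).toEquiv]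
  -- the first projection is injective
  have hK : p1.ker.map p2 = ⊥ := by
    have : (p1.ker.map p2).Normal := Subgroup.Normal.map inferInstance p2 hp2
    have := Co3Out.isSimple
    refine (this.eq_bot_or_eq_top_of_normal _ ‹_›).resolve_right fun htop => ?_
    have h1 : Nat.card M ≤ Nat.card p1.ker := by
      rw [← Nat.card_congr (Subgroup.topEquiv (G := M)).toEquiv, ← htop]
      exact Nat.card_le_card_of_surjective _ (p2.subgroupMap_surjective p1.ker)
    have h2 : 2903040 ≤ Nat.card (S.G0 (x := x)) := by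
      rw [← C_facts.2]
      exact Nat.card_le_card_of_injective (fun c => ⟨S.ψ c, S.psi_mem c⟩)
        fun a b e => S.inj (congrArg Subtype.val e)
    have h3 : Nat.card (S.G0 (x := x)) * Nat.card p1.ker = Nat.card R.grp := by
      rw [Subgroup.card_eq_card_quotient_mul_card_subgroup p1.ker,
        Nat.card_congr (QuotientGroup.quotientKerEquivOfSurjective p1 hp1).toEquiv]
    rw [Co3Out.card_H] at h1
    have := Nat.mul_le_mul h2 h1
    omega
  have hinj : Function.Injective p1 := (injective_iff_map_eq_one p1).2 fun z hz => by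
    have h2 : p2 z = 1 := Subgroup.mem_bot.1 (hK ▸ ⟨z, hz, rfl⟩)
    exact Subtype.ext (Prod.ext (congrArg Subtype.val hz) h2)
  let e := MulEquiv.ofBijective p1 ⟨hinj, hp1⟩
  refine ⟨p2.comp e.symm.toMonoidHom, ?_, hp2.comp e.symm.surjective⟩
  -- the second projection is injective
  rw [injective_iff_map_eq_one]
  let N : Subgroup G := (p2.comp e.symm.toMonoidHom).ker.map (S.G0 (x := x)).subtype
  have hNn : ∀ g ∈ S.G0 (x := x), ∀ n ∈ N, g * n * g⁻¹ ∈ N := fun g hg n ⟨n', hn', e'⟩ =>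
    ⟨⟨g, hg⟩ * n' * ⟨g, hg⟩⁻¹, (MonoidHom.normal_ker _).conj_mem n' hn' ⟨g, hg⟩, by subst e'; rfl⟩
  have hN0 : Nat.card N ≤ 119 := by
    rw [Subgroup.card_subtype]
    have h : Nat.card (p2.comp e.symm.toMonoidHom).ker = Nat.card p2.ker :=
      Nat.card_congr (e.symm.toEquiv.subtypeEquiv fun y => Iff.rfl)
    rw [h]
    rw [Co3Out.card_H] at hcard
    omega
  suffices hN : N = ⊥ by
    intro z hz
    exact Subtype.ext (Subgroup.mem_bot.1 (hN ▸ ⟨z, hz, rfl⟩))
  refine S.eq_bot_of_trivial hx hNn fun n hn hc => ?_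
  obtain ⟨c, rfl⟩ := S.exists_of_comm hc
  -- the normal subgroups of the centraliser
  obtain ⟨ρ, hρ, -, hρ2⟩ := exists_rho
  let K : Subgroup C := N.comap S.ψ
  have hKn : K.Normal := ⟨fun k hk d => by
    show S.ψ (d * k * d⁻¹) ∈ N
    rw [map_mul, map_mul, map_inv]
    exact hNn _ (S.psi_mem d) _ hk⟩
  have hKc : Nat.card K ≤ 119 := (Nat.card_le_card_of_injective (fun k : K => (⟨S.ψ k.1, k.2⟩ : N))
    fun a b e => Subtype.ext (S.inj (congrArg Subtype.val e))).trans hN0
  have hKρ : K ≤ ρ.ker := by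
    have := SpSix_simple
    rcases this.eq_bot_or_eq_top_of_normal (K.map ρ) (hKn.map ρ hρ) with h | h
    · exact (Subgroup.map_eq_bot_iff _).1 h
    · exfalso
      have : Nat.card (K.map ρ) ≤ Nat.card K := Nat.card_le_card_of_surjective _ (ρ.subgroupMap_surjective K)
      rw [h, Nat.card_congr Subgroup.topEquiv.toEquiv, Cfsg.Agent.Classical.SpSix.card_G0] at this
      omega
  by_contra hne
  have hc1 : c ≠ 1 := fun e' => hne (by rw [e', map_one])
  have ht : (tC : C) ∈ ρ.ker := by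
    by_contra htk
    have hz : ρ tC ∈ Subgroup.center Cfsg.Agent.Classical.SpSix.G0 := Subgroup.mem_center_iff.2 fun y => by
      obtain ⟨d, rfl⟩ := hρ y
      rw [← map_mul, ← map_mul]
      exact congrArg ρ (Subtype.ext (mem_C_comm d.2))
    rw [Cfsg.Agent.Classical.SpSix.center_eq_bot, Subgroup.mem_bot] at hz
    exact htk hz
  have two : ∀ z w : ρ.ker, z ≠ 1 → w ≠ 1 → z = w := fun z w hz hw => by
    have := Fact.mk Nat.prime_two
    by_contra hzw
    have h3 : ({1, z, w} : Set ρ.ker).ncard ≤ Nat.card ρ.ker := Set.ncard_le_card _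
    rw [Set.ncard_eq_three.2 ⟨1, z, w, hz.symm, hw.symm, hzw, rfl⟩, hρ2] at h3
    omega
  have n1 : (⟨tC, ht⟩ : ρ.ker) ≠ 1 := fun e' => g0_ne (congrArg (fun z : ρ.ker => z.1.1) e')
  have hct : c = tC :=
    congrArg Subtype.val (two ⟨c, hKρ hn⟩ ⟨tC, ht⟩ (fun e' => hc1 (congrArg Subtype.val e')) n1)
  have hu : S.u ∈ N := by
    rw [← hx.1.1]
    refine hNn x S.x_mem _ ?_
    rw [hct] at hn
    exact hn
  have huk : (cel u1C : C) ∈ ρ.ker := hKρ hu
  exact e1_facts.2.2.1 (congrArg (fun z : ρ.ker => z.1.1)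
    (two ⟨cel u1C, huk⟩ ⟨tC, ht⟩ (fun e' => e1_facts.2.1 (congrArg (fun z : ρ.ker => z.1.1) e')) n1))

theorem G0_eq_top [Finite G] : S.G0 (x := x) = ⊤ := by
  classical
  have := Fact.mk Nat.prime_two
  by_contra hne
  set H0 := S.G0 (x := x) with hH0
  obtain ⟨P, htP, hPc⟩ := S.exists_sylow
  have hP0 : ∀ s ∈ P, s ∈ H0 := fun s hs =>
    S.centralizer_le (Subgroup.mem_centralizer_singleton_iff.2 (hPc s hs))
  -- conjugates of the involution in the Sylow subgroup are conjugates inside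
  have inP : ∀ g : G, g * S.t * g⁻¹ ∈ P → g ∈ H0 := fun g hg => by
    obtain ⟨h2, h1⟩ := S.invol_of_conj ⟨g, rfl⟩
    rcases S.classify (hPc _ hg) h2 h1 with e | ⟨c, e | e⟩
    · exact S.centralizer_le (Subgroup.mem_centralizer_singleton_iff.2 (mul_inv_eq_iff_eq_mul.1 e))
    · rw [show S.E u1C = S.u from rfl, ← hx.1.1] at e
      have hm : (S.ψ c * x)⁻¹ * g ∈ H0 := S.centralizer_le (Subgroup.mem_centralizer_singleton_iff.2 (by
        calc (S.ψ c * x)⁻¹ * g * S.t = x⁻¹ * (S.ψ c)⁻¹ * (g * S.t * g⁻¹) * g := by group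
          _ = S.t * ((S.ψ c * x)⁻¹ * g) := by rw [e]; group))
      have := mul_mem (mul_mem (S.psi_mem c) S.x_mem) hm
      rwa [mul_inv_cancel_left] at this
    · refine absurd ?_ (S.not_conj_u2 ((S.ψ c)⁻¹ * g))
      rw [show (S.ψ c)⁻¹ * g * S.t * ((S.ψ c)⁻¹ * g)⁻¹ = (S.ψ c)⁻¹ * (g * S.t * g⁻¹) * S.ψ c by group, e]
      group
  -- the same for an overgroup
  have inN : ∀ N : Subgroup G, H0 ≤ N → ∀ g : G, g * S.t * g⁻¹ ∈ N → g ∈ N := fun N hle g hg => by
    let y : N := ⟨g * S.t * g⁻¹, hg⟩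
    have hy2 : y * y = 1 := Subtype.ext (S.invol_of_conj ⟨g, rfl⟩).1
    have hy : IsPGroup 2 (Subgroup.zpowers y) := by
      obtain ⟨j, -, hj⟩ := (Nat.dvd_prime_pow Nat.prime_two).1 (orderOf_dvd_of_pow_eq_one (n := 2 ^ 1)
        (show y ^ 2 ^ 1 = 1 by rw [pow_one, sq, hy2]))
      exact IsPGroup.of_card (n := j) (by rw [Nat.card_zpowers, hj])
    obtain ⟨Q, hQ⟩ := hy.exists_le_sylow
    let PN : Sylow 2 N := P.subtype (fun s hs => hle (hP0 s hs))
    obtain ⟨n, hn⟩ := MulAction.exists_smul_eq N Q PN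
    have hmem : MulAut.conj n • y ∈ (PN : Subgroup N) := by
      rw [← hn]
      exact ⟨_, hQ (Subgroup.mem_zpowers _), rfl⟩
    have h := inP (n.1 * g) (by
      have h' : n.1 * (g * S.t * g⁻¹) * n.1⁻¹ ∈ P := hmem
      rw [show n.1 * g * S.t * (n.1 * g)⁻¹ = n.1 * (g * S.t * g⁻¹) * n.1⁻¹ by group]
      exact h')
    have := mul_mem (inv_mem n.2) (hle h)
    rwa [inv_mul_cancel_left] at this
  obtain ⟨π, hπ⟩ := S.exists_iso_aux hx
  -- the group is simple
  have hsimple : IsSimpleGroup G := by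
    have : Nontrivial G := ⟨⟨S.t, 1, S.t_facts.2⟩⟩
    refine ⟨fun N hN => or_iff_not_imp_left.2 fun hb => ?_⟩
    have hle : H0 ≤ N := by
      have hs : IsSimpleGroup M := Co3Out.isSimple
      rcases hs.eq_bot_or_eq_top_of_normal ((N.subgroupOf H0).map π) ((hN.comap _).map π hπ.2) with h | h
      · refine absurd (S.eq_bot_of_trivial hx (fun g _ n hn => hN.conj_mem n hn g) fun n hn hc => ?_) hb
        have hn0 : n ∈ H0 := S.centralizer_le (Subgroup.mem_centralizer_singleton_iff.2 hc)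
        have := Subgroup.mem_bot.1 (h ▸ ⟨⟨n, hn0⟩, hn, rfl⟩ : π ⟨n, hn0⟩ ∈ (⊥ : Subgroup M))
        exact congrArg Subtype.val (hπ.1 (this.trans π.map_one.symm))
      · intro y hy
        obtain ⟨z, hz, e⟩ : π ⟨y, hy⟩ ∈ (N.subgroupOf H0).map π := h ▸ Subgroup.mem_top _
        have hz' : (z : G) ∈ N := hz
        rwa [show (z : G) = y from congrArg Subtype.val (hπ.1 e)] at hz'
    refine eq_top_iff.2 fun g _ => inN N hle g (hN.conj_mem _ (hle (S.psi_mem tC)) g)
  obtain ⟨K, hK⟩ := @Cfsg.Agent.S1175.result G _ _ hsimple H0 hne S.t S.orderOf_t (S.psi_mem tC)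
    ⟨P, htP, hPc⟩ (fun g hg => inN H0 le_rfl g hg) fun g hc hne' => by
      obtain ⟨h2, h1⟩ := S.invol_of_conj ⟨g, rfl⟩
      rcases S.classify hc.eq.symm h2 h1 with e | ⟨c, e | e⟩
      · exact absurd e hne'
      · intro y hy
        have hy' := Subgroup.mem_centralizer_singleton_iff.1 hy
        rw [e, show S.E u1C = S.u from rfl,
          show S.t * (S.ψ c * S.u * (S.ψ c)⁻¹) = S.ψ c * (S.t * S.u) * (S.ψ c)⁻¹ by
            rw [← mul_assoc, ← mul_assoc, ← S.comm c]; group,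
          ← S.conj_tu hx] at hy'
        set k := S.ψ c * (S.E betC * x) with hk
        have hk0 : k ∈ H0 := mul_mem (S.psi_mem c) (mul_mem (S.psi_mem _) S.x_mem)
        have hm : k⁻¹ * y * k ∈ H0 := S.centralizer_le (Subgroup.mem_centralizer_singleton_iff.2 (by
          calc k⁻¹ * y * k * S.t = k⁻¹ * (y * (S.ψ c * (S.E betC * x * S.t * (S.E betC * x)⁻¹) * (S.ψ c)⁻¹)) * k := by
                rw [hk]; group
            _ = _ := by rw [hy', hk]; group))
        have := mul_mem (mul_mem hk0 hm) (inv_mem hk0)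
        rwa [show k * (k⁻¹ * y * k) * k⁻¹ = y by group] at this
      · refine absurd ?_ (S.not_conj_u2 ((S.ψ c)⁻¹ * g))
        rw [show (S.ψ c)⁻¹ * g * S.t * ((S.ψ c)⁻¹ * g)⁻¹ = (S.ψ c)⁻¹ * (g * S.t * g⁻¹) * S.ψ c by group, e]
        group
  obtain ⟨s, hs⟩ := exists_prime_orderOf_dvd_card' (G := K) 2 hK.2.1.two_dvd
  obtain ⟨g, hg⟩ : ∃ g, g ∉ K := by
    by_contra hall
    push Not at hall
    exact hK.1 (eq_top_iff.2 fun y _ => hall y)
  have hout : g * s.1 * g⁻¹ ∉ K := fun hin => by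
    have hodd := hK.2.2 g hg
    let z : ↥(K ⊓ K.map (MulAut.conj g).toMonoidHom) := ⟨g * s.1 * g⁻¹, hin, s.1, s.2, rfl⟩
    have hz : orderOf z = 2 := by
      rw [← Subgroup.orderOf_coe, show (z : G) = MulAut.conj g s.1 from rfl, MulEquiv.orderOf_eq,
        Subgroup.orderOf_coe, hs]
    exact Nat.not_even_iff_odd.2 hodd (even_iff_two_dvd.2 (hz ▸ orderOf_dvd_natCard z))
  have hsG : orderOf (s.1 : G) = 2 := by rw [Subgroup.orderOf_coe, hs]
  obtain ⟨-, hall⟩ := Cfsg.Agent.S1225.result K hK (g * s.1 * g⁻¹)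
    (by rw [← MulAut.conj_apply, MulEquiv.orderOf_eq, hsG]) hout s.1 s.1 hsG s.2 hsG s.2
  have hu2 : orderOf (S.E u2C) = 2 := by
    refine orderOf_eq_prime (by rw [sq]; simpa using S.eq_of_chk inv_facts.2.1) fun e => ?_
    have he : el u2C = 1 := congrArg Subtype.val (S.inj (e.trans S.ψ.map_one.symm))
    obtain ⟨p, hp⟩ := fix_t
    exact free_e2 p (by rw [show e2 = 1 from he, map_one, Equiv.Perm.one_apply])
  obtain ⟨k, hk⟩ := isConj_iff.1 (hall S.t (S.E u2C) S.orderOf_t hu2)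
  exact S.not_conj_u2 k hk

end Sys

/-- A group with a copy of the centraliser of the model is the third Conway group. -/
theorem isoCo3_of_sys {G : Type u} [Group G] [Finite G] (S : Sys G) (hO : Cfsg.oddCore G = ⊥)
    (hZ : Subgroup.center G = ⊥) : Cfsg.Spor.IsoCo3 G := by
  obtain ⟨x, hx⟩ := S.exists_good hO hZ
  obtain ⟨π, hπ⟩ := S.exists_iso_aux hx
  obtain ⟨e⟩ := Co3Out.nonempty_equiv
  exact ⟨(Subgroup.topEquiv.symm.trans ((MulEquiv.subgroupCongr (S.G0_eq_top hx).symm).trans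
    (MulEquiv.ofBijective π hπ))).trans e.symm⟩

/-- A group with this involution centraliser is the third Conway group. -/
theorem isoCo3 {G : Type u} [Group G] [Finite G] (hO : Cfsg.oddCore G = ⊥) (hZ : Subgroup.center G = ⊥) (t : G)
    (ht : orderOf t = 2) (hC : Cfsg.IsNonsplitDoubleCover (Subgroup.centralizer ({t} : Set G))
      (Matrix.symplecticGroup (Fin 3) (ZMod 2))) : Cfsg.Spor.IsoCo3 G := by
  obtain ⟨ψ, hi, hr, htt⟩ := exists_psi ht hC
  have htt' : ψ tC = t := htt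
  exact isoCo3_of_sys ⟨ψ, hi, by rw [hr, htt']⟩ hO hZ

end Cfsg.Agent.Spor.Co3Uniq
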