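import Cfsg.Agent.Lib.Spor.Cos.Act

/-!
A stabiliser chain given by letters: products of one letter from each level are distinct.
-/

set_option autoImplicit false

namespace Cfsg.Agent.Spor.Co3Uniq

open Cos

variable {G : Type*} [Group G] {N : ℕ}

/-- Two products with the same image of a point, from letters telling their point apart. -/
theorem eq_of_base {π : G →* Equiv.Perm (Fin N)} {L : ℕ → G} {m : ℕ} {b : Fin N}
    (hinj : ∀ i < m, ∀ j < m, π (L i) b = π (L j) b → i = j) {i j : ℕ} (hi : i < m) (hj : j < m) {y z : G}
    (hy : π y b = b) (hz : π z b = b) (e : L i * y = L j * z) : i = j ∧ y = z := by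
  have h : i = j := hinj i hi j hj (by
    have := congrArg (fun v => π v b) e
    simp only [map_mul, Equiv.Perm.mul_apply, hy, hz] at this
    exact this)
  subst h
  exact ⟨rfl, mul_left_cancel e⟩

end Cfsg.Agent.Spor.Co3Uniq
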