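import Cfsg.Agent.Lib.Spor.Co3Uniq.RelDefs
import Cfsg.Agent.Lib.Spor.Co3Uniq.CloData

/-! The checks of the closure of seven double cosets under the swap. -/

set_option autoImplicit false

namespace Cfsg.Agent.Spor.Co3Uniq

open Cos

/-- The kind of a fact. -/
noncomputable def opF (f : ℕ) : ℕ := clMeta.at f % 16

/-- The source of a fact. -/
noncomputable def srcF (f : ℕ) : ℕ := clMeta.at f / 16 % 16

/-- The target of a fact. -/
noncomputable def tgtF (f : ℕ) : ℕ := clMeta.at f / 256 % 16

/-- The first ingredient of a fact. -/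
noncomputable def oneF (f : ℕ) : ℕ := clMeta.at f / 1048576 % 65536

/-- The second ingredient of a fact. -/
noncomputable def twoF (f : ℕ) : ℕ := clMeta.at f / 68719476736

/-- The adjacent pair of a fact. -/
noncomputable def pairF (f : ℕ) : ℕ := clMeta.at f / 4096 % 256

/-- An edge from earlier facts. -/
noncomputable def edgeF (f g : ℕ) : Bool := Nat.blt g f && Nat.blt (opF g) 5

/-- A first edge, an edge back, or an edge moved by a stabilising pair. -/
noncomputable def chkBasic (f : ℕ) : Bool :=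
  (Nat.beq (opF f) 0 && Nat.blt (srcF f) (tgtF f) && Nat.blt (tgtF f) 7 &&
      (gamL.getD (tgtF f) (0, 0) == (srcF f, clA.at f)) && Nat.beq (clL.at f) 0 && Nat.beq (clR.at f) 0) ||
    (Nat.beq (opF f) 1 && edgeF f (oneF f) && Nat.beq (srcF f) (tgtF (oneF f)) &&
      Nat.beq (tgtF f) (srcF (oneF f)) && Nat.beq (clA.at f) (clR.at (oneF f)) &&
      Nat.beq (clR.at f) (clA.at (oneF f)) && eqC [clL.at f, clL.at (oneF f)] []) ||
    (Nat.beq (opF f) 2 && edgeF f (oneF f) && Nat.blt (twoF f) f && !(Nat.blt (opF (twoF f)) 5) &&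
      Nat.beq (srcF f) (srcF (oneF f)) && Nat.beq (srcF f) (srcF (twoF f)) && Nat.beq (tgtF f) (tgtF (oneF f)) &&
      Nat.beq (clR.at f) (clR.at (oneF f)) && eqC [clA.at f] [clA.at (twoF f), clA.at (oneF f)] &&
      eqC [clL.at f] [clL.at (twoF f), clL.at (oneF f)])

/-- An edge closing a triangle. -/
noncomputable def chkTri (f : ℕ) : Bool :=
  Nat.beq (opF f) 4 && edgeF f (oneF f) && edgeF f (twoF f) && Nat.blt (pairF f) 37 &&
    Nat.beq (srcF f) (srcF (oneF f)) && Nat.beq (tgtF (oneF f)) (srcF (twoF f)) &&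
    Nat.beq (tgtF f) (tgtF (twoF f)) &&
    eqC [clA.at f] [clA.at (oneF f), ent pairL (pairF f) 3] &&
    eqC [clL.at f] [clL.at (oneF f), clL.at (twoF f)] &&
    eqC [clR.at (oneF f), ent pairL (pairF f) 2] [clA.at (twoF f), clB.at f] &&
    eqC [clB.at f, u1C] [u1C, clB.at f] && chkSig (clB.at f) (clAB.at f) &&
    eqC [clR.at f, ent pairL (pairF f) 4] [clR.at (twoF f), clAB.at f]

/-- A stabilising pair: a first one, or the quotient of two edges. -/
noncomputable def chkStab (f : ℕ) : Bool :=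
  Nat.beq (srcF f) (tgtF f) &&
    ((Nat.beq (opF f) 5 && Nat.beq (srcF f) 0 && Nat.beq (clL.at f) (clA.at f)) ||
      (Nat.beq (opF f) 6 && Nat.beq (srcF f) 1 && eqC [clA.at f, u1C] [u1C, clA.at f] &&
        chkSig (clA.at f) (clL.at f)) ||
      (Nat.beq (opF f) 7 && edgeF f (oneF f) && edgeF f (twoF f) &&
        Nat.beq (srcF (oneF f)) (srcF (twoF f)) && Nat.beq (tgtF (oneF f)) (tgtF (twoF f)) &&
        Nat.beq (srcF f) (tgtF (oneF f)) &&
        eqC [clA.at (twoF f)] [clA.at (oneF f), clB.at f] &&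
        eqC [clB.at f, u1C] [u1C, clB.at f] && chkSig (clB.at f) (clAB.at f) &&
        eqC [clL.at (oneF f), clL.at f] [clL.at (twoF f)] &&
        eqC [clA.at f, clR.at (twoF f)] [clR.at (oneF f), clAB.at f]))

/-- A fact follows from the earlier ones. -/
noncomputable def chkFact (f : ℕ) : Bool := chkBasic f || chkTri f || chkStab f

/-- Every edge at a representative is a fact. -/
noncomputable def chkFin (q : ℕ) : Bool :=
  force (clFin.at q % 8192) fun f => force (clFin.at q / 8192) fun b =>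
    Nat.blt f clN && Nat.blt (opF f) 5 && Nat.beq (srcF f) (q / 630) &&
      eqC [trT.at (q % 630)] [clA.at f, b] && eqC [b, u1C] [u1C, b]

end Cfsg.Agent.Spor.Co3Uniq
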