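import Cfsg.Agent.Lib.Spor.Co3Uniq.Defs

/-! The tables of generators and bases are right. -/

set_option autoImplicit false
set_option maxRecDepth 100000
set_option maxHeartbeats 4000000

namespace Cfsg.Agent.Spor.Co3Uniq

open Cos

theorem gen_ok : ∀ i < 2760, chkGen i = true := by
  refine of_blocks (size := 700) (b := 4) (by decide) (by decide) fun j hj => ?_
  interval_cases j <;> decide +kernel

theorem base_ok : ((List.range 4).all fun r => (List.range (off (r + 1) - off r)).all fun i => chkBase r i) = true := by
  decide +kernel

end Cfsg.Agent.Spor.Co3Uniq
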