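import Cfsg.Agent.Lib.Spor.Co3Uniq.Defs

/-! Part of the check of the table of letters. -/

set_option autoImplicit false
set_option maxRecDepth 100000
set_option maxHeartbeats 4000000

namespace Cfsg.Agent.Spor.Co3Uniq

open Cos

theorem letter_ok4 : ∀ j < 200, 160 ≤ j → allBlock chkLetter 188232 600 j = true := by
  intro j hj hj'
  interval_cases j <;> decide +kernel

end Cfsg.Agent.Spor.Co3Uniq
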