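import Cfsg.Agent.Lib.Spor.Cos.Co3Out.Cent
import Cfsg.Agent.Lib.Spor.Co3Uniq.Chain
import Cfsg.Agent.Lib.Spor.Co3Uniq.CodeChk
import Cfsg.Agent.Lib.Spor.Co3Uniq.LetterChk0
import Cfsg.Agent.Lib.Spor.Co3Uniq.LetterChk1
import Cfsg.Agent.Lib.Spor.Co3Uniq.LetterChk2
import Cfsg.Agent.Lib.Spor.Co3Uniq.LetterChk3
import Cfsg.Agent.Lib.Spor.Co3Uniq.LetterChk4
import Cfsg.Agent.Lib.Spor.Co3Uniq.LetterChk5
import Cfsg.Agent.Lib.Spor.Co3Uniq.LetterChk6
import Cfsg.Agent.Lib.Spor.Co3Uniq.LetterChk7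

/-!
The involution centraliser in the model, its elements by codes.
-/

set_option autoImplicit false
set_option maxRecDepth 100000
set_option maxHeartbeats 1000000

namespace Cfsg.Agent.Spor.Co3Uniq

open Cos Cos.Co3Out Cos.Triple

/-- The model. -/
abbrev M : Type := Co3Out.H

/-- The centraliser in the model. -/
abbrev C : Subgroup M := Co3Out.C

theorem cenG_len : cenG.length = 5 := by decide +kernel

theorem cenG_lt : (cenG.all fun w => w.all fun s => Nat.blt s 5) = true := by decide +kernel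

/-- A generator of the centraliser. -/
noncomputable def cg (s : ℕ) : M := ev g (cenG.getD s [])

theorem cg_mem (s : ℕ) : cg s ∈ C := by
  rw [cg]
  rcases Nat.lt_or_ge s cenG.length with h | h
  · have hm : cenG.getD s [] ∈ c0W := by
      rw [← cenG_eq, List.getD_eq_getElem _ _ h]
      exact List.getElem_mem _
    exact comm_le cen_comm (Subgroup.subset_closure ⟨_, hm, rfl⟩)
  · rw [List.getD_eq_default _ _ h]
    exact C.one_mem

theorem cg_apply {s : ℕ} (hs : s < 5) (p : Fin actA.N) : (pi (cg s) p : ℕ) = imG s p := by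
  have hl : ∀ x ∈ cenG.getD s [], x < 5 := fun x hx => by
    rw [List.getD_eq_getElem _ _ (cenG_len ▸ hs)] at hx
    exact Nat.le_of_ble_eq_true (List.all_eq_true.1 (List.all_eq_true.1 cenG_lt _ (List.getElem_mem _)) x hx)
  have hp : (p : ℕ) < 552 := p.2
  have h := gen_ok (s * 552 + p) (by omega)
  rw [chkGen, show (s * 552 + p) / 552 = s by omega, show (s * 552 + p) % 552 = (p : ℕ) by omega] at h
  rw [cg, homA.apply_ev _ hl, Nat.eq_of_beq_eq_true h]

/-- A letter. -/
noncomputable def lg (k : ℕ) : M := ev cg (pathW k)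

theorem lg_mem (k : ℕ) : lg k ∈ C := ev_mem _ fun s _ => cg_mem s

theorem letter_ok (i : ℕ) (hi : i < 188232) : chkLetter i = true := by
  refine of_allBlock (by norm_num : 0 < 600) (fun j hj => ?_) hi
  have hb : j < 314 := by omega
  rcases Nat.lt_or_ge j 40 with h0 | h0
  · exact letter_ok0 j h0 (Nat.zero_le _)
  rcases Nat.lt_or_ge j 80 with h1 | h1
  · exact letter_ok1 j h1 h0
  rcases Nat.lt_or_ge j 120 with h2 | h2
  · exact letter_ok2 j h2 h1
  rcases Nat.lt_or_ge j 160 with h3 | h3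
  · exact letter_ok3 j h3 h2
  rcases Nat.lt_or_ge j 200 with h4 | h4
  · exact letter_ok4 j h4 h3
  rcases Nat.lt_or_ge j 240 with h5 | h5
  · exact letter_ok5 j h5 h4
  rcases Nat.lt_or_ge j 280 with h6 | h6
  · exact letter_ok6 j h6 h5
  · exact letter_ok7 j hb h6

theorem letter_cases {k p : ℕ} (hk : k < 341) (hp : p < 552) :
    (pathW k = [] ∧ imL k p = p) ∨ ∃ s l, s < 5 ∧ l < k ∧ pathW k = s :: pathW l ∧ imL k p = imG s (imL l p) := by
  have h := letter_ok (k * 552 + p) (by omega)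
  rw [chkLetter, show (k * 552 + p) / 552 = k by omega, show (k * 552 + p) % 552 = p by omega, force_eq, force_eq,
    force_eq] at h
  rcases Bool.eq_false_or_eq_true (Nat.beq (parT.at k) 0) with he | he
  · rw [he, cond_true, Bool.and_eq_true] at h
    exact Or.inl ⟨List.isEmpty_iff.1 h.1, Nat.eq_of_beq_eq_true h.2⟩
  · rw [he, cond_false] at h
    simp only [Bool.and_eq_true, beq_iff_eq] at h
    exact Or.inr ⟨_, _, Nat.le_of_ble_eq_true h.1.1.2, Nat.le_of_ble_eq_true h.1.1.1, h.1.2,
      Nat.eq_of_beq_eq_true h.2⟩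

theorem lg_apply (k : ℕ) : k < 341 → ∀ p : Fin actA.N, (pi (lg k) p : ℕ) = imL k p := by
  induction k using Nat.strong_induction_on with
  | _ k ih =>
    intro hk p
    rcases letter_cases hk p.2 with ⟨hw, e⟩ | ⟨s, l, hs, hl, hw, e⟩
    · rw [lg, hw, ev, map_one, Equiv.Perm.one_apply, e]
    · rw [lg, hw, ev, map_mul, Equiv.Perm.mul_apply, cg_apply hs, ← lg, ih l hl (hl.trans hk), e]

/-- The element of four digits. -/
noncomputable def el4 (a b c d : ℕ) : M := lg a * (lg (72 + b) * (lg (312 + c) * lg (333 + d)))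

/-- The element of a code. -/
noncomputable def el (N : ℕ) : M :=
  el4 (N % 72) (N / 72 % 240) (N / 17280 % 21) (N / 362880 % 8)

theorem el_mem (N : ℕ) : el N ∈ C :=
  mul_mem (lg_mem _) (mul_mem (lg_mem _) (mul_mem (lg_mem _) (lg_mem _)))

theorem el_apply (N : ℕ) (p : Fin actA.N) : (pi (el N) p : ℕ) = app N p := by
  rw [el, el4, map_mul, map_mul, map_mul, Equiv.Perm.mul_apply, Equiv.Perm.mul_apply, Equiv.Perm.mul_apply, app,
    force_eq, force_eq, force_eq, lg_apply _ (by omega), lg_apply _ (by omega), lg_apply _ (by omega),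
    lg_apply _ (by omega)]

/-- The base point of a level. -/
def bpt (r : ℕ) : Fin actA.N := ⟨base r, by
  rcases r with _ | _ | _ | _ | r <;> simp [base, show actA.N = 552 from rfl]⟩

theorem level_facts {r : ℕ} (hr : r < 4) {i : ℕ} (hi : i < off (r + 1) - off r) :
    (∀ j < r, pi (lg (off r + i)) (bpt j) = bpt j) ∧
      posT.at (r * 552 + (pi (lg (off r + i)) (bpt r) : ℕ)) = i := by
  have h := List.all_eq_true.1 (List.all_eq_true.1 base_ok r (List.mem_range.2 hr)) i (List.mem_range.2 hi)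
  rw [chkBase, Bool.and_eq_true, List.all_eq_true] at h
  have hk : off r + i < 341 := by
    have : ∀ q < 4, off (q + 1) ≤ 341 := by decide
    have := this r hr
    omega
  refine ⟨fun j hj => Fin.ext ?_, ?_⟩
  · rw [lg_apply _ hk]
    exact Nat.eq_of_beq_eq_true (h.1 j (List.mem_range.2 hj))
  · rw [lg_apply _ hk]
    exact Nat.eq_of_beq_eq_true h.2

theorem level_inj {r : ℕ} (hr : r < 4) : ∀ i < off (r + 1) - off r, ∀ j < off (r + 1) - off r,
    pi (lg (off r + i)) (bpt r) = pi (lg (off r + j)) (bpt r) → i = j := fun i hi j hj e => by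
  rw [← (level_facts hr hi).2, e, (level_facts hr hj).2]

theorem el4_inj {a b c d a' b' c' d' : ℕ} (ha : a < 72) (hb : b < 240) (hc : c < 21) (hd : d < 8) (ha' : a' < 72)
    (hb' : b' < 240) (hc' : c' < 21) (hd' : d' < 8) (e : el4 a b c d = el4 a' b' c' d') :
    a = a' ∧ b = b' ∧ c = c' ∧ d = d' := by
  have f1 : ∀ {i}, i < 240 → pi (lg (72 + i)) (bpt 0) = bpt 0 := fun h => (level_facts (r := 1) (by omega) h).1 0 (by omega)
  have f2 : ∀ {i}, i < 21 → ∀ j < 2, pi (lg (312 + i)) (bpt j) = bpt j := fun h => (level_facts (r := 2) (by omega) h).1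
  have f3 : ∀ {i}, i < 8 → ∀ j < 3, pi (lg (333 + i)) (bpt j) = bpt j := fun h => (level_facts (r := 3) (by omega) h).1
  have s0 : ∀ {b c d}, b < 240 → c < 21 → d < 8 →
      pi (lg (72 + b) * (lg (312 + c) * lg (333 + d))) (bpt 0) = bpt 0 := fun h1 h2 h3 => by
    rw [map_mul, map_mul, Equiv.Perm.mul_apply, Equiv.Perm.mul_apply, f3 h3 0 (by omega), f2 h2 0 (by omega), f1 h1]
  have s1 : ∀ {c d}, c < 21 → d < 8 → pi (lg (312 + c) * lg (333 + d)) (bpt 1) = bpt 1 := fun h2 h3 => by
    rw [map_mul, Equiv.Perm.mul_apply, f3 h3 1 (by omega), f2 h2 1 (by omega)]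
  obtain ⟨rfl, e1⟩ := eq_of_base (L := fun i => lg i) (fun i hi j hj => by
    simpa [off] using level_inj (r := 0) (by omega) i hi j hj) ha ha' (s0 hb hc hd) (s0 hb' hc' hd') e
  obtain ⟨rfl, e2⟩ := eq_of_base (L := fun i => lg (72 + i)) (level_inj (r := 1) (by omega)) hb hb'
    (s1 hc hd) (s1 hc' hd') e1
  obtain ⟨rfl, e3⟩ := eq_of_base (L := fun i => lg (312 + i)) (level_inj (r := 2) (by omega)) hc hc'
    (f3 hd 2 (by omega)) (f3 hd' 2 (by omega)) e2
  refine ⟨rfl, rfl, rfl, level_inj (r := 3) (by omega) d hd d' hd' ?_⟩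
  exact congrArg (fun v => pi v (bpt 3)) e3

theorem el_inj {N N' : ℕ} (h : N < total) (h' : N' < total) (e : el N = el N') : N = N' := by
  unfold total at h h'
  obtain ⟨e0, e1, e2, e3⟩ := el4_inj (Nat.mod_lt _ (by omega)) (Nat.mod_lt _ (by omega)) (Nat.mod_lt _ (by omega))
    (Nat.mod_lt _ (by omega)) (Nat.mod_lt _ (by omega)) (Nat.mod_lt _ (by omega)) (Nat.mod_lt _ (by omega))
    (Nat.mod_lt _ (by omega)) e
  omega

theorem exists_code {y : M} (hy : y ∈ C) : ∃ N < total, el N = y := by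
  classical
  have hinj : Function.Injective fun N : Fin total => (⟨el N, el_mem N⟩ : C) := fun a b e =>
    Fin.ext (el_inj a.2 b.2 (congrArg Subtype.val e))
  have : Finite C := Nat.finite_of_card_ne_zero (by rw [C_facts.2]; norm_num)
  obtain ⟨N, hN⟩ := (hinj.bijective_of_nat_card_le (by rw [C_facts.2, Nat.card_fin, total])).2 ⟨y, hy⟩
  exact ⟨N, N.2, congrArg Subtype.val hN⟩

theorem det4 {y : M} (hy : y ∈ C) (h : ∀ r < 4, pi y (bpt r) = bpt r) : y = 1 := by
  obtain ⟨N, hN, rfl⟩ := exists_code hy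
  have z : ∀ r < 4, lg (off r) = 1 := by
    intro r hr
    have : ∀ q < 4, (pathW (off q)).isEmpty = true := by decide +kernel
    rw [lg, List.isEmpty_iff.1 (this r hr), ev]
  set a := N % 72
  set b := N / 72 % 240
  set c := N / 17280 % 21
  set d := N / 362880 % 8
  have ha : a < 72 := Nat.mod_lt _ (by omega)
  have hb : b < 240 := Nat.mod_lt _ (by omega)
  have hc : c < 21 := Nat.mod_lt _ (by omega)
  have hd : d < 8 := Nat.mod_lt _ (by omega)
  have fix : ∀ {r i}, r < 4 → i < off (r + 1) - off r → pi (lg (off r + i)) (bpt r) = bpt r → i = 0 := fun hr hi e =>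
    level_inj hr _ hi 0 (by omega) (by rw [e, Nat.add_zero, z _ hr, map_one, Equiv.Perm.one_apply])
  have f1 := (level_facts (r := 1) (i := b) (by omega) hb).1
  have f2 := (level_facts (r := 2) (i := c) (by omega) hc).1
  have f3 := (level_facts (r := 3) (i := d) (by omega) hd).1
  simp only [show off 1 = 72 from rfl, show off 2 = 312 from rfl, show off 3 = 333 from rfl] at f1 f2 f3
  have h' : ∀ r < 4, pi (lg a) (pi (lg (72 + b)) (pi (lg (312 + c)) (pi (lg (333 + d)) (bpt r)))) = bpt r :=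
    fun r hr => by simpa [el, el4, Equiv.Perm.mul_apply] using h r hr
  have h0 := h' 0 (by omega)
  rw [f3 0 (by omega), f2 0 (by omega), f1 0 (by omega)] at h0
  have ea : a = 0 := fix (r := 0) (by omega) ha (by rw [show off 0 + a = a from Nat.zero_add a]; exact h0)
  have la : lg a = 1 := by rw [ea]; exact z 0 (by omega)
  have h1 := h' 1 (by omega)
  rw [la, map_one, Equiv.Perm.one_apply, f3 1 (by omega), f2 1 (by omega)] at h1
  have eb : b = 0 := fix (r := 1) (by omega) hb h1
  have lb : lg (72 + b) = 1 := by rw [eb]; exact z 1 (by omega)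
  have h2 := h' 2 (by omega)
  rw [la, lb, map_one, Equiv.Perm.one_apply, Equiv.Perm.one_apply, f3 2 (by omega)] at h2
  have ec : c = 0 := fix (r := 2) (by omega) hc h2
  have lc : lg (312 + c) = 1 := by rw [ec]; exact z 2 (by omega)
  have h3 := h' 3 (by omega)
  rw [la, lb, lc, map_one, Equiv.Perm.one_apply, Equiv.Perm.one_apply, Equiv.Perm.one_apply] at h3
  have ed : d = 0 := fix (r := 3) (by omega) hd h3
  show el4 a b c d = 1
  rw [el4, la, lb, lc, show lg (333 + d) = 1 by rw [ed]; exact z 3 (by omega)]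
  simp

theorem prod_el_mem (L : List ℕ) : (L.map el).prod ∈ C :=
  list_prod_mem fun y hy => by
    obtain ⟨N, -, rfl⟩ := List.mem_map.1 hy
    exact el_mem N

theorem appW_apply : ∀ (L : List ℕ) (p : Fin actA.N), (pi (L.map el).prod p : ℕ) = appW L p
  | [], p => by simp [appW]
  | N :: L, p => by
    rw [List.map_cons, List.prod_cons, map_mul, Equiv.Perm.mul_apply, el_apply, appW_apply L p]
    show _ = force (appW L p) fun q => app N q
    rw [force_eq]

theorem prod_eq {L R : List ℕ} (h : eqC L R = true) : (L.map el).prod = (R.map el).prod := by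
  simp only [eqC, Bool.and_eq_true, force_eq, List.all_eq_true] at h
  refine (inv_mul_eq_one.1 (det4 (mul_mem (inv_mem (prod_el_mem R)) (prod_el_mem L)) fun r hr => ?_)).symm
  rw [map_mul, map_inv, Equiv.Perm.mul_apply, Equiv.Perm.inv_eq_iff_eq]
  refine Fin.ext ?_
  rw [appW_apply, appW_apply]
  exact Nat.eq_of_beq_eq_true (h.2 _ (by
    rcases r with _ | _ | _ | _ | r
    · decide
    · decide
    · decide
    · decide
    · omega))

end Cfsg.Agent.Spor.Co3Uniq
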