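import Cfsg.Agent.Lib.Classical.SpSix.TailTop
import Cfsg.Prelude.Def_SporadicB

/-!
Perfect double covers of a group whose stem kernels have order at most two are isomorphic.
-/

set_option autoImplicit false

open Cfsg
open scoped commutatorElement

namespace Cfsg.Agent.Spor.Co3Uniq

open Cfsg.Agent.Classical.SpSix (G0)

universe u v

theorem perfect_of_cover {E : Type u} [Group E] [Finite E] {K : Type v} [Group K] (hK : commutator K = ⊤)
    (h : Cfsg.IsNonsplitDoubleCover E K) : commutator E = ⊤ := by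
  obtain ⟨hc, ⟨e⟩, hns⟩ := h
  let σ : E →* K := e.toMonoidHom.comp (QuotientGroup.mk' (Subgroup.center E))
  have hσ : Function.Surjective σ := e.surjective.comp (QuotientGroup.mk'_surjective _)
  have hker : σ.ker = Subgroup.center E := by
    ext x
    simp [σ]
  have hmap : (commutator E).map σ = ⊤ := by
    rw [commutator_def, Subgroup.map_commutator, Subgroup.map_top_of_surjective σ hσ, ← commutator_def, hK]
  have hsup : Subgroup.center E ⊔ commutator E = ⊤ := by
    rw [← hker, sup_comm, ← Subgroup.comap_map_eq, hmap, Subgroup.comap_top]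
  by_contra hne
  refine hns (commutator E) (Subgroup.isComplement'_of_disjoint_and_mul_eq_univ ?_ ?_)
  · rw [disjoint_iff, Subgroup.eq_bot_iff_forall]
    intro z hz
    by_contra h1
    refine hne (eq_top_iff.2 (hsup.symm.le.trans (sup_le ?_ le_rfl)))
    intro y hy
    have := Fact.mk Nat.prime_two
    have hz' : (⟨z, hz.1⟩ : Subgroup.center E) ≠ 1 := fun e => h1 (congrArg Subtype.val e)
    have hgen : Subgroup.zpowers (⟨z, hz.1⟩ : Subgroup.center E) = ⊤ := zpowers_eq_top_of_prime_card hc hz'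
    obtain ⟨k, hk⟩ : (⟨y, hy⟩ : Subgroup.center E) ∈ Subgroup.zpowers ⟨z, hz.1⟩ := hgen ▸ Subgroup.mem_top _
    have := congrArg Subtype.val hk
    simp only [SubgroupClass.coe_zpow] at this
    exact this ▸ Subgroup.zpow_mem _ hz.2 k
  · rw [← Subgroup.mul_normal, hsup, Subgroup.coe_top]

/-- Commutators only depend on the images, the kernel being central. -/
theorem comm_eq {X : Type u} [Group X] {Y : Type v} [Group Y] {s : X →* Y} (hs : s.ker ≤ Subgroup.center X)
    {a b d e : X} (ha : s a = s d) (hb : s b = s e) : ⁅a, b⁆ = ⁅d, e⁆ := by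
  have c1 : ∀ w, (d⁻¹ * a) * w = w * (d⁻¹ * a) := fun w => (Subgroup.mem_center_iff.1 (hs (by
    rw [MonoidHom.mem_ker, map_mul, map_inv, ha, inv_mul_cancel])) w).symm
  have c2 : ∀ w, (e⁻¹ * b) * w = w * (e⁻¹ * b) := fun w => (Subgroup.mem_center_iff.1 (hs (by
    rw [MonoidHom.mem_ker, map_mul, map_inv, hb, inv_mul_cancel])) w).symm
  rw [commutatorElement_def, commutatorElement_def]
  calc a * b * a⁻¹ * b⁻¹ = d * ((d⁻¹ * a) * b) * a⁻¹ * b⁻¹ := by group
    _ = d * b * d⁻¹ * b⁻¹ := by rw [c1 b]; group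
    _ = d * (e * ((e⁻¹ * b) * d⁻¹)) * b⁻¹ := by group
    _ = _ := by rw [c2 d⁻¹]; group

/-- A subgroup with full image of a perfect central extension is everything. -/
theorem eq_top_of_image {X : Type u} [Group X] {Y : Type v} [Group Y] {s : X →* Y} (hs : s.ker ≤ Subgroup.center X)
    (hX : commutator X = ⊤) {S : Subgroup X} (hS : ∀ x, ∃ y ∈ S, s y = s x) : S = ⊤ := by
  refine eq_top_iff.2 (hX.symm.le.trans (Subgroup.commutator_le.2 fun a _ b _ => ?_))
  obtain ⟨d, hd, hd'⟩ := hS a
  obtain ⟨e, he, he'⟩ := hS b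
  rw [comm_eq hs hd'.symm he'.symm, commutatorElement_def]
  exact S.mul_mem (S.mul_mem (S.mul_mem hd he) (S.inv_mem hd)) (S.inv_mem he)

/-- Two perfect central extensions with kernels of order two are isomorphic. -/
theorem nonempty_equiv {E : Type u} [Group E] [Finite E] {E' : Type v} [Group E'] [Finite E'] (σ : E →* G0)
    (σ' : E' →* G0) (hσ : Function.Surjective σ) (hσ' : Function.Surjective σ') (hc : σ.ker ≤ Subgroup.center E)
    (hc' : σ'.ker ≤ Subgroup.center E') (hp : commutator E = ⊤) (hp' : commutator E' = ⊤)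
    (h2 : Nat.card σ.ker = 2) (h2' : Nat.card σ'.ker = 2) : Nonempty (E ≃* E') := by
  let Γ : Subgroup (E × E') := (σ.comp (MonoidHom.fst E E')).eqLocus (σ'.comp (MonoidHom.snd E E'))
  have hG : commutator G0 = ⊤ := by
    have h := congrArg (Subgroup.map σ) hp
    rw [commutator_def, Subgroup.map_commutator, Subgroup.map_top_of_surjective σ hσ] at h
    exact h
  let τ : Γ →* G0 := (σ.comp (MonoidHom.fst E E')).comp Γ.subtype
  have hτ : Function.Surjective τ := fun y => by
    obtain ⟨a, rfl⟩ := hσ y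
    obtain ⟨b, hb⟩ := hσ' (σ a)
    exact ⟨⟨(a, b), hb.symm⟩, rfl⟩
  have hτc : τ.ker ≤ Subgroup.center Γ := fun z hz => Subgroup.mem_center_iff.2 fun x => by
    have h1 : σ z.1.1 = 1 := hz
    have h1' : σ' z.1.2 = 1 := z.2.symm.trans h1
    exact Subtype.ext (Prod.ext (Subgroup.mem_center_iff.1 (hc h1) _) (Subgroup.mem_center_iff.1 (hc' h1') _))
  let D : Subgroup Γ := commutator Γ
  let ρ : D →* G0 := τ.comp D.subtype
  have hDmap : D.map τ = ⊤ := by
    rw [show D = commutator Γ from rfl, commutator_def, Subgroup.map_commutator,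
      Subgroup.map_top_of_surjective τ hτ, ← commutator_def, hG]
  have hρ : Function.Surjective ρ := fun y => by
    obtain ⟨x, hx, rfl⟩ := (hDmap ▸ Subgroup.mem_top y : y ∈ D.map τ)
    exact ⟨⟨x, hx⟩, rfl⟩
  have hDD : commutator D = ⊤ := by
    refine eq_top_iff.2 fun x _ => ?_
    have key : D ≤ (commutator D).map D.subtype := by
      refine Subgroup.commutator_le.2 fun a _ b _ => ?_
      obtain ⟨d, hd⟩ := hρ (τ a)
      obtain ⟨e, he⟩ := hρ (τ b)
      refine ⟨⁅d, e⁆, Subgroup.commutator_mem_commutator (Subgroup.mem_top _) (Subgroup.mem_top _), ?_⟩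
      rw [comm_eq hτc (a := a) (b := b) hd.symm he.symm]
      rfl
    obtain ⟨y, hy, e⟩ := key x.2
    exact Subtype.ext e ▸ hy
  have hstem : Cfsg.IsStemExtension ρ := by
    refine ⟨hρ, fun z hz => Subgroup.mem_center_iff.2 fun w => ?_, by rw [hDD]; exact le_top⟩
    have := Subgroup.mem_center_iff.1 (hτc (show z.1 ∈ τ.ker from hz)) w.1
    exact Subtype.ext this
  obtain ⟨c, -, hc2, hle⟩ := Cfsg.Agent.Classical.SpSix.exists_gen ρ hstem
  have hk : Nat.card ρ.ker ≤ 2 := (Subgroup.card_le_of_le hle).trans <| by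
    rw [Nat.card_zpowers]
    exact Nat.le_of_dvd two_pos (orderOf_dvd_of_pow_eq_one hc2)
  have hcard : ∀ {X : Type (max u v)} [Group X], (f : X →* G0) → Function.Surjective f →
      Nat.card X = Nat.card G0 * Nat.card f.ker := fun f hf => by
    rw [Subgroup.card_eq_card_quotient_mul_card_subgroup f.ker,
      Nat.card_congr (QuotientGroup.quotientKerEquivOfSurjective f hf).toEquiv]
  have hcD : Nat.card D ≤ Nat.card G0 * 2 := by
    rw [hcard ρ hρ]
    exact Nat.mul_le_mul_left _ hk
  have hcE : Nat.card E = Nat.card G0 * 2 := by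
    rw [Subgroup.card_eq_card_quotient_mul_card_subgroup σ.ker,
      Nat.card_congr (QuotientGroup.quotientKerEquivOfSurjective σ hσ).toEquiv, h2]
  have hcE' : Nat.card E' = Nat.card G0 * 2 := by
    rw [Subgroup.card_eq_card_quotient_mul_card_subgroup σ'.ker,
      Nat.card_congr (QuotientGroup.quotientKerEquivOfSurjective σ' hσ').toEquiv, h2']
  let p : D →* E := ((MonoidHom.fst E E').comp Γ.subtype).comp D.subtype
  let p' : D →* E' := ((MonoidHom.snd E E').comp Γ.subtype).comp D.subtype
  have hp1 : Function.Surjective p := MonoidHom.range_eq_top.1 <| eq_top_of_image hc hp fun x => by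
    obtain ⟨d, hd⟩ := hρ (σ x)
    exact ⟨_, ⟨d, rfl⟩, hd⟩
  have hp2 : Function.Surjective p' := MonoidHom.range_eq_top.1 <| eq_top_of_image hc' hp' fun x => by
    obtain ⟨d, hd⟩ := hρ (σ' x)
    exact ⟨_, ⟨d, rfl⟩, d.1.2.symm.trans hd⟩
  have : Finite Γ := inferInstance
  exact ⟨(MulEquiv.ofBijective p (hp1.bijective_of_nat_card_le (hcD.trans hcE.ge))).symm.trans
    (MulEquiv.ofBijective p' (hp2.bijective_of_nat_card_le (hcD.trans hcE'.ge)))⟩

end Cfsg.Agent.Spor.Co3Uniq
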