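import Cfsg.Agent.Lib.Spor.Cos.Co3Out.Defs
import Cfsg.Agent.Lib.Spor.Co3Uniq.CodeData

/-!
Codes for the elements of an involution centraliser: four letters, one of each level of a stabiliser chain.
-/

set_option autoImplicit false

namespace Cfsg.Agent.Spor.Co3Uniq

open Cos Cos.Triple

/-- The letters of a level start here. -/
def off (r : ℕ) : ℕ := [0, 72, 312, 333].getD r 341

/-- The base points. -/
def base (r : ℕ) : ℕ := [1, 0, 2, 3].getD r 0

/-- The path of a letter. -/
noncomputable def pathW (k : ℕ) : List ℕ := Central.decNibbles 8 (pathT.at k)

/-- The image of a point under a letter. -/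
noncomputable def imL (k p : ℕ) : ℕ := letT.at (k * 552 + p)

/-- The image of a point under a generator. -/
noncomputable def imG (s p : ℕ) : ℕ := genT.at (s * 552 + p)

/-- The number of codes. -/
def total : ℕ := 2903040

/-- The image of a point under the element of a code. -/
noncomputable def app (N p : ℕ) : ℕ :=
  force (imL (333 + N / 362880 % 8) p) fun q =>
  force (imL (312 + N / 17280 % 21) q) fun q =>
  force (imL (72 + N / 72 % 240) q) fun q => imL (N % 72) q

/-- The image of a point under a product of codes, the last first. -/
noncomputable def appW (L : List ℕ) (p : ℕ) : ℕ :=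
  List.rec (motive := fun _ => ℕ) p (fun N _ r => force r fun q => app N q) L

/-- Two products of codes agree at the base. -/
noncomputable def eqC (L R : List ℕ) : Bool :=
  (L.all fun N => Nat.blt N total) && (R.all fun N => Nat.blt N total) &&
    [1, 0, 2, 3].all fun p => force (appW L p) fun a => Nat.beq a (appW R p)

/-- The generators are the words. -/
noncomputable def chkGen (i : ℕ) : Bool :=
  Nat.beq (imG (i / 552) (i % 552)) (Co3Out.actA.go (Co3Out.cenG.getD (i / 552) []) (i % 552))

/-- A letter is a generator times its parent. -/
noncomputable def chkLetter (i : ℕ) : Bool :=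
  force (i / 552) fun k => force (i % 552) fun p => force (parT.at k) fun e =>
    bif Nat.beq e 0 then (pathW k).isEmpty && Nat.beq (imL k p) p
    else
      Nat.blt (e / 8) k && Nat.blt (e % 8 - 1) 5 && (pathW k == (e % 8 - 1) :: pathW (e / 8)) &&
        Nat.beq (imL k p) (imG (e % 8 - 1) (imL (e / 8) p))

/-- A letter fixes the earlier base points and takes its own where the table says. -/
noncomputable def chkBase (r i : ℕ) : Bool :=
  ((List.range r).all fun j => Nat.beq (imL (off r + i) (base j)) (base j)) &&
    Nat.beq (posT.at (r * 552 + imL (off r + i) (base r))) i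

end Cfsg.Agent.Spor.Co3Uniq
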