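import Cfsg.Agent.Lib.Spor.Co3Uniq.FusDefs

/-! Checks of the classes of involutions. -/

set_option autoImplicit false
set_option maxRecDepth 100000
set_option maxHeartbeats 4000000

namespace Cfsg.Agent.Spor.Co3Uniq

open Cos

theorem syl_ok : ∀ i < 1024, sylL.chk i = true := by
  refine of_blocks (size := 256) (b := 4) (by decide) (by decide) fun j hj => ?_
  interval_cases j <;> decide +kernel

theorem class_ok : ∀ i < 1024, chkClass i = true := by
  refine of_blocks (size := 256) (b := 4) (by decide) (by decide) fun j hj => ?_
  interval_cases j <;> decide +kernel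

theorem square_ok : ∀ i < 1024, chkSquare i = true := by
  refine of_blocks (size := 256) (b := 4) (by decide) (by decide) fun j hj => ?_
  interval_cases j <;> decide +kernel

theorem cen_ok : ∀ i < 1024, chkCen i = true := by
  refine of_blocks (size := 512) (b := 2) (by decide) (by decide) fun j hj => ?_
  interval_cases j <;> decide +kernel

theorem inv_facts : eqC [u1C, u1C] [] = true ∧ eqC [u2C, u2C] [] = true ∧ neC [u1C] [] = true ∧
    neC [u1C] [tCode] = true ∧ eqC [root1, root1] [tCode] = true ∧ eqC [root2, root2] [tCode] = true ∧
    eqC [root1, u1C] [u1C, root1] = true ∧ eqC [root2, u2C] [u2C, root2] = true ∧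
    ((List.range 552).all fun p => !(Nat.beq (app u2C p) p)) = true ∧
    ((List.range 552).any fun p => Nat.beq (app u1C p) p) = true := by
  decide +kernel

end Cfsg.Agent.Spor.Co3Uniq
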