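import Cfsg.Agent.Lib.Spor.Co3Uniq.ListGrp
import Cfsg.Agent.Lib.Spor.Co3Uniq.LinkData
import Cfsg.Agent.Lib.Spor.Co3Uniq.FusData

/-! The checks of the classes of involutions. -/

set_option autoImplicit false

namespace Cfsg.Agent.Spor.Co3Uniq

open Cos

/-- The Sylow subgroup. -/
def sylL : LG := ⟨1024, sN, sylC, sStep, sPar⟩

/-- The representative of a kind. -/
def repC (k : ℕ) : ℕ := bif Nat.beq k 3 then u1C else u2C

/-- The class of an element of the Sylow subgroup. -/
noncomputable def chkClass (i : ℕ) : Bool :=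
  force (sylL.code.at i) fun N => force (sK.at i) fun e =>
    Nat.beq i 0 || (Nat.beq (e % 8) 1 && neC [N, N] []) || (Nat.beq (e % 8) 2 && Nat.beq N tCode) ||
      ((Nat.beq (e % 8) 3 || Nat.beq (e % 8) 4) && eqC [N, e / 8] [e / 8, repC (e % 8)])

/-- The square of an element of the Sylow subgroup. -/
noncomputable def chkSquare (i : ℕ) : Bool :=
  force (sylL.code.at i) fun N => force (sSq.at i) fun e =>
    (Nat.beq (e % 8) 0 && eqC [N, N] []) || (Nat.beq (e % 8) 1 && eqC [N, N] [tCode]) ||
      (Nat.beq (e % 8) 2 && eqC [N, N, e / 8] [e / 8, u1C]) || (Nat.beq (e % 8) 3 && neC [N, N, N, N] [])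

/-- An element of the Sylow subgroup is the identity, the involution, or not central. -/
noncomputable def chkCen (i : ℕ) : Bool :=
  force (sylL.code.at i) fun N => Nat.beq i 0 || Nat.beq N tCode || sylC.any fun h => neC [N, h] [h, N]

end Cfsg.Agent.Spor.Co3Uniq
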