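import Cfsg.Agent.Lib.Spor.Co3Uniq.LinkDefs

/-! Checks of the map to the symplectic group. -/

set_option autoImplicit false
set_option maxRecDepth 100000
set_option maxHeartbeats 4000000

namespace Cfsg.Agent.Spor.Co3Uniq

theorem form_ok : ((List.range 7).all fun s => (List.range 552).all fun p => chkForm s p) = true := by decide +kernel

theorem sep_ok : ((List.range 64).all chkSep) = true := by decide +kernel

theorem root_ok : eqC [gamW.getD 0 0, gamW.getD 0 0] [tCode] = true ∧
    (commW.all chkCommRow) = true ∧ gamW.length = 7 ∧ tCode < total ∧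
    ([1, 0, 2, 3].all fun p => Nat.beq (app tCode p) (Cos.Co3Out.actA.im p 0)) = true ∧
    ((List.range 5).all fun s => [1, 0, 2, 3].all fun p =>
      Nat.beq (app ((commW.getD s (0, [])).1) p) (imG s p)) = true ∧ commW.length = 5 := by
  decide +kernel

end Cfsg.Agent.Spor.Co3Uniq
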