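import Cfsg.Agent.Lib.Spor.Co3Uniq.Cover
import Cfsg.Agent.Lib.Spor.Co3Uniq.Code
import Cfsg.Agent.Lib.Spor.Co3Uniq.LinkChk

/-!
The involution centraliser of the model is the perfect double cover of the symplectic group.
-/

set_option autoImplicit false
set_option maxRecDepth 100000

namespace Cfsg.Agent.Spor.Co3Uniq

open Cos Cos.Co3Out Cos.Triple
open Cfsg.Agent.Classical (SpSix.G0 SpSix.gT)
open scoped commutatorElement

theorem g0_mem : g 0 ∈ C := Subgroup.mem_centralizer_singleton_iff.2 rfl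

theorem g0_ne : g 0 ≠ 1 := g_ne (by norm_num)

theorem eq_of_app {y z : M} (hy : y ∈ C) (hz : z ∈ C)
    (h : ∀ p : Fin actA.N, (p : ℕ) ∈ [1, 0, 2, 3] → (pi y p : ℕ) = pi z p) : y = z := by
  refine (inv_mul_eq_one.1 (det4 (mul_mem (inv_mem hz) hy) fun r hr => ?_)).symm
  rw [map_mul, map_inv, Equiv.Perm.mul_apply, Equiv.Perm.inv_eq_iff_eq]
  refine Fin.ext (h _ ?_)
  rcases r with _ | _ | _ | _ | r
  · decide
  · decide
  · decide
  · decide
  · omega

theorem el_tCode : el tCode = g 0 := eq_of_app (el_mem _) g0_mem fun p hp => by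
  rw [el_apply, ← ev_zero, homA.apply_ev [0] (by decide)]
  rw [Nat.eq_of_beq_eq_true (List.all_eq_true.1 root_ok.2.2.2.2.1 _ hp), Act.go_cons, Act.go_nil]

theorem mem_C_comm {c : M} (hc : c ∈ C) : c * g 0 = g 0 * c := Subgroup.mem_centralizer_singleton_iff.1 hc

/-- The fixed points. -/
def Fix (p : Fin actA.N) : Prop := pi (g 0) p = p

theorem fix_apply {c : M} (hc : c ∈ C) {p : Fin actA.N} (hp : Fix p) : Fix (pi c p) := by
  show pi (g 0) (pi c p) = pi c p
  rw [← Equiv.Perm.mul_apply, ← map_mul, ← mem_C_comm hc, map_mul, Equiv.Perm.mul_apply, hp]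

theorem fix_iff {p : Fin actA.N} : Fix p ↔ fixB p = true := by
  rw [Fix, fixB, Nat.beq_eq, ← homA.apply_ev [0] (by decide), ev_zero]
  exact ⟨congrArg Fin.val, Fin.ext⟩

/-- The form at a point. -/
noncomputable def form (p : Fin actA.N) (v : Fin 64) : Bool := (formT.at p).testBit v

/-- Pairs moving the forms alike. -/
def good : Subgroup (C × SpSix.G0) where
  carrier := {x | ∀ p, Fix p → ∀ v, form (pi x.1.1 p) (Cfsg.Agent.Classical.SpSix.piA x.2 v) = form p v}
  one_mem' := fun p _ v => by simp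
  mul_mem' {a b} ha hb := fun p hp v => by
    show form (pi (a.1.1 * b.1.1) p) (Cfsg.Agent.Classical.SpSix.piA (a.2 * b.2) v) = _
    rw [map_mul, map_mul, Equiv.Perm.mul_apply, Equiv.Perm.mul_apply, ha _ (fix_apply b.1.2 hp), hb p hp]
  inv_mem' {a} ha := fun p hp v => by
    have := ha _ (fix_apply (a⁻¹).1.2 hp) (Cfsg.Agent.Classical.SpSix.piA a.2⁻¹ v)
    simp only [Prod.fst_inv, Subgroup.coe_inv, map_inv, Equiv.Perm.inv_def, Equiv.apply_symm_apply] at this
    simpa [Equiv.Perm.inv_def] using this.symm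

/-- The lift of a transvection. -/
noncomputable def gamE (s : ℕ) : C := ⟨el (gamW.getD s 0), el_mem _⟩

/-- The graph of the map. -/
noncomputable def graph : Subgroup (C × SpSix.G0) :=
  Subgroup.closure {x | ∃ s < 7, x = (gamE s, SpSix.gT s)}

theorem graph_le : graph ≤ good := by
  refine (Subgroup.closure_le _).2 ?_
  rintro _ ⟨s, hs, rfl⟩ p hp v
  have h := List.all_eq_true.1 (List.all_eq_true.1 form_ok s (List.mem_range.2 hs)) p (List.mem_range.2 p.2)
  rw [chkForm, fix_iff.1 hp, Bool.not_true, Bool.false_or, force_eq, force_eq, force_eq, Bool.and_eq_true] at h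
  have h' := List.all_eq_true.1 h.2 v.1 (List.mem_range.2 v.2)
  show form (pi (el (gamW.getD s 0)) p) (Cfsg.Agent.Classical.SpSix.piA (SpSix.gT s) v) = form p v
  rw [Cfsg.Agent.Classical.SpSix.homA.gen s]
  show (formT.at (pi (el _) p : ℕ)).testBit _ = (formT.at p).testBit v
  rw [el_apply, Cfsg.Agent.Classical.SpSix.actA.perm_apply Cfsg.Agent.Classical.SpSix.act_inv hs]
  revert h'
  cases (formT.at (app (gamW.getD s 0) p)).testBit (Cfsg.Agent.Classical.SpSix.actA.im v s) <;>
    cases (formT.at p).testBit v <;> simp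

theorem snd_eq_one {x : C × SpSix.G0} (hx : x ∈ graph) (h : x.1 = 1) : x.2 = 1 := by
  refine Cfsg.Agent.Classical.SpSix.det _ fun v _ => Fin.ext ?_
  by_contra hne
  have hs := List.all_eq_true.1 (List.all_eq_true.1 sep_ok v.1 (List.mem_range.2 v.2))
    (Cfsg.Agent.Classical.SpSix.piA x.2 v : ℕ) (List.mem_range.2 (Cfsg.Agent.Classical.SpSix.piA x.2 v).2)
  rw [Bool.or_eq_true, Nat.beq_eq] at hs
  rcases hs with hs | hs
  · exact hne hs.symm
  obtain ⟨p, hp, hb⟩ := List.any_eq_true.1 hs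
  rw [Bool.and_eq_true] at hb
  have he := graph_le hx ⟨p, List.mem_range.1 hp⟩ (fix_iff.2 hb.1) v
  rw [h, Subgroup.coe_one, map_one, Equiv.Perm.one_apply] at he
  have h2 := hb.2
  simp only [form] at he
  rw [he] at h2
  revert h2
  cases (formT.at p).testBit v <;> simp

theorem perfect_C : commutator C = ⊤ := by
  have hx : ∀ w, (∀ s ∈ w, s < 5) → ∀ h : ev cg w ∈ C, (⟨ev cg w, h⟩ : C) ∈ commutator C := by
    intro w
    induction w with
    | nil => exact fun _ _ => one_mem _
    | cons s w ih =>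
      intro hl h
      have hw : ev cg w ∈ C := ev_mem _ fun t _ => cg_mem t
      suffices hs : (⟨cg s, cg_mem s⟩ : C) ∈ commutator C from
        mul_mem hs (ih (fun t ht => hl t (List.mem_cons_of_mem _ ht)) hw)
      have hs5 := hl s (List.mem_cons_self ..)
      have hc : el (commW.getD s (0, [])).1 = cg s := eq_of_app (el_mem _) (cg_mem s) fun p hp => by
        rw [el_apply, cg_apply hs5]
        exact Nat.eq_of_beq_eq_true
          (List.all_eq_true.1 (List.all_eq_true.1 root_ok.2.2.2.2.2.1 s (List.mem_range.2 hs5)) _ hp)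
      have hrow : chkCommRow (commW.getD s (0, [])) = true := by
        have hlt : s < commW.length := root_ok.2.2.2.2.2.2.symm ▸ hs5
        exact List.all_eq_true.1 root_ok.2.1 _ (List.getD_eq_getElem _ _ hlt ▸ List.getElem_mem _)
      generalize commW.getD s (0, []) = row at hc hrow
      obtain ⟨c, l⟩ := row
      match l, hrow with
      | [a, b, ai, bi, x, y, xi, yi], hrow =>
        simp only [chkCommRow, Bool.and_eq_true] at hrow
        have e : ∀ {u v}, eqC [u, v] [] = true → el v = (el u)⁻¹ := fun h =>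
          eq_inv_of_mul_eq_one_right (by simpa using prod_eq h)
        have key : (⟨cg s, cg_mem s⟩ : C) = ⁅(⟨el a, el_mem a⟩ : C), ⟨el b, el_mem b⟩⁆ *
            ⁅(⟨el x, el_mem x⟩ : C), ⟨el y, el_mem y⟩⁆ := Subtype.ext (by
          show cg s = el a * el b * (el a)⁻¹ * (el b)⁻¹ * (el x * el y * (el x)⁻¹ * (el y)⁻¹)
          rw [← hc, ← e hrow.1.1.1.1, ← e hrow.1.1.1.2, ← e hrow.1.1.2, ← e hrow.1.2]
          have := prod_eq hrow.2
          simp only [List.map_cons, List.map_nil, List.prod_cons, List.prod_nil, mul_one] at this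
          rw [← this]
          simp only [mul_assoc])
        rw [key]
        exact mul_mem (Subgroup.commutator_mem_commutator (Subgroup.mem_top _) (Subgroup.mem_top _))
          (Subgroup.commutator_mem_commutator (Subgroup.mem_top _) (Subgroup.mem_top _))
  refine eq_top_iff.2 fun x _ => ?_
  have hv : C = Subgroup.closure {y | ∃ s < 5, y = cg s} := by
    refine le_antisymm ?_ ((Subgroup.closure_le _).2 fun y ⟨s, _, e⟩ => e ▸ cg_mem s)
    show Co3Out.C ≤ _
    rw [← C_facts.1, ← cenG_eq]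
    refine (Subgroup.closure_le _).2 ?_
    rintro _ ⟨w, hw, rfl⟩
    obtain ⟨i, hi, rfl⟩ := List.mem_iff_getElem.1 hw
    exact Subgroup.subset_closure ⟨i, cenG_len ▸ hi, by rw [cg, List.getD_eq_getElem _ _ hi]⟩
  obtain ⟨x, hxC⟩ := x
  have hxc : x ∈ Subgroup.closure {y | ∃ s < 5, y = cg s} := hv ▸ hxC
  have : x ∈ (commutator C).map C.subtype := by
    refine (Subgroup.closure_le _).2 ?_ hxc
    rintro _ ⟨s, hs, rfl⟩
    exact ⟨_, hx [s] (by simpa using hs) (by simpa [ev] using cg_mem s), mul_one _⟩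
  obtain ⟨z, hz, e⟩ := this
  exact (Subtype.ext e : z = ⟨x, hxC⟩) ▸ hz

theorem t_mem_graph : ((⟨g 0, g0_mem⟩ : C), (1 : SpSix.G0)) ∈ graph := by
  have h : (gamE 0, SpSix.gT 0) ∈ graph := Subgroup.subset_closure ⟨0, by norm_num, rfl⟩
  have hm := mul_mem h h
  rw [Prod.mk_mul_mk, Cfsg.Agent.Classical.SpSix.gT_mul_self] at hm
  convert hm using 2
  exact Subtype.ext (by
    show g 0 = el _ * el _
    rw [← el_tCode]
    simpa using (prod_eq root_ok.1).symm)

theorem fst_surjective : Function.Surjective ((MonoidHom.fst C SpSix.G0).comp graph.subtype) := by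
  have : Finite C := Nat.finite_of_card_ne_zero (by rw [C_facts.2]; norm_num)
  let q : graph →* SpSix.G0 := (MonoidHom.snd C SpSix.G0).comp graph.subtype
  have hq : Function.Surjective q := MonoidHom.range_eq_top.1 (eq_top_iff.2 (by
    rw [← Cfsg.Agent.Classical.SpSix.gen, Subgroup.closure_le]
    rintro _ ⟨s, hs, rfl⟩
    exact ⟨⟨_, Subgroup.subset_closure ⟨s, hs, rfl⟩⟩, rfl⟩))
  have h2 : 2 ≤ Nat.card q.ker := by
    refine Finite.one_lt_card_iff_nontrivial.2 ⟨1, ⟨⟨_, t_mem_graph⟩, rfl⟩, fun e => g0_ne ?_⟩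
    exact (congrArg (fun z : q.ker => z.1.1.1.1) e).symm
  have hg : Nat.card C ≤ Nat.card graph := by
    rw [C_facts.2, Subgroup.card_eq_card_quotient_mul_card_subgroup q.ker,
      Nat.card_congr (QuotientGroup.quotientKerEquivOfSurjective q hq).toEquiv,
      Cfsg.Agent.Classical.SpSix.card_G0]
    exact (show 2903040 = 1451520 * 2 by norm_num) ▸ Nat.mul_le_mul_left _ h2
  have hi : Function.Injective ((MonoidHom.fst C SpSix.G0).comp graph.subtype) := by
    rw [injective_iff_map_eq_one]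
    exact fun x hx => Subtype.ext (Prod.ext hx (snd_eq_one x.2 hx))
  exact (hi.bijective_of_nat_card_le hg).2

/-- The map to the symplectic group. -/
theorem exists_rho : ∃ ρ : C →* SpSix.G0, Function.Surjective ρ ∧ ρ.ker ≤ Subgroup.center C ∧
    Nat.card ρ.ker = 2 := by
  have : Finite C := Nat.finite_of_card_ne_zero (by rw [C_facts.2]; norm_num)
  let e := MulEquiv.ofBijective ((MonoidHom.fst C SpSix.G0).comp graph.subtype)
    ⟨(injective_iff_map_eq_one _).2 fun x hx => Subtype.ext (Prod.ext hx (snd_eq_one x.2 hx)), fst_surjective⟩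
  let ρ : C →* SpSix.G0 := ((MonoidHom.snd C SpSix.G0).comp graph.subtype).comp e.symm.toMonoidHom
  have key : ∀ x : graph, ρ x.1.1 = x.1.2 := fun x => by
    show (e.symm x.1.1).1.2 = x.1.2
    rw [show e.symm x.1.1 = x from e.symm_apply_eq.2 rfl]
  have hs : Function.Surjective ρ := MonoidHom.range_eq_top.1 (eq_top_iff.2 (by
    rw [← Cfsg.Agent.Classical.SpSix.gen, Subgroup.closure_le]
    rintro _ ⟨s, hs, rfl⟩
    exact ⟨gamE s, key ⟨_, Subgroup.subset_closure ⟨s, hs, rfl⟩⟩⟩))
  have hc : Nat.card ρ.ker = 2 := by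
    have h := Subgroup.card_eq_card_quotient_mul_card_subgroup ρ.ker
    rw [Nat.card_congr (QuotientGroup.quotientKerEquivOfSurjective ρ hs).toEquiv, C_facts.2,
      Cfsg.Agent.Classical.SpSix.card_G0] at h
    omega
  refine ⟨ρ, hs, fun z hz => ?_, hc⟩
  have ht : (⟨g 0, g0_mem⟩ : C) ∈ ρ.ker := key ⟨_, t_mem_graph⟩
  have := Fact.mk Nat.prime_two
  have hne : (⟨⟨g 0, g0_mem⟩, ht⟩ : ρ.ker) ≠ 1 := fun e => g0_ne (congrArg (fun z : ρ.ker => z.1.1) e)
  obtain ⟨k, hk⟩ : (⟨z, hz⟩ : ρ.ker) ∈ Subgroup.zpowers ⟨⟨g 0, g0_mem⟩, ht⟩ :=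
    zpowers_eq_top_of_prime_card hc hne ▸ Subgroup.mem_top _
  have hz' : (⟨g 0, g0_mem⟩ : C) ^ k = z := congrArg Subtype.val hk
  rw [← hz']
  exact Subgroup.zpow_mem _ (Subgroup.mem_center_iff.2 fun c => Subtype.ext (mem_C_comm c.2)) k

/-- The centraliser of an involution with this structure is a copy of the centraliser in the model. -/
theorem exists_psi {G : Type*} [Group G] [Finite G] {t : G} (ht : orderOf t = 2)
    (hC : Cfsg.IsNonsplitDoubleCover (Subgroup.centralizer ({t} : Set G))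
      (Matrix.symplecticGroup (Fin 3) (ZMod 2))) :
    ∃ ψ : C →* G, Function.Injective ψ ∧ ψ.range = Subgroup.centralizer ({t} : Set G) ∧
      ψ ⟨g 0, g0_mem⟩ = t := by
  have : Finite C := Nat.finite_of_card_ne_zero (by rw [C_facts.2]; norm_num)
  obtain ⟨ρ, hρ, hρc, hρ2⟩ := exists_rho
  have hG : commutator SpSix.G0 = ⊤ := by
    have h := congrArg (Subgroup.map ρ) perfect_C
    rw [commutator_def, Subgroup.map_commutator, Subgroup.map_top_of_surjective ρ hρ] at h
    exact h
  set T := Subgroup.centralizer ({t} : Set G)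
  have hperf := perfect_of_cover hG hC
  obtain ⟨hc, ⟨e⟩, hns⟩ := hC
  let σ : T →* SpSix.G0 := e.toMonoidHom.comp (QuotientGroup.mk' (Subgroup.center T))
  have hσ : Function.Surjective σ := e.surjective.comp (QuotientGroup.mk'_surjective _)
  have hker : σ.ker = Subgroup.center T := by
    ext x
    simp [σ]
  obtain ⟨E⟩ := nonempty_equiv ρ σ hρ hσ hρc hker.le perfect_C hperf hρ2 (hker.symm ▸ hc)
  refine ⟨T.subtype.comp E.toMonoidHom, T.subtype_injective.comp E.injective, ?_, ?_⟩
  · rw [MonoidHom.range_comp, MonoidHom.range_eq_top.2 E.surjective, ← MonoidHom.range_eq_map, Subgroup.range_subtype]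
  · have htT : t ∈ T := Subgroup.mem_centralizer_singleton_iff.2 rfl
    have h1 : (⟨t, htT⟩ : T) ∈ Subgroup.center T :=
      Subgroup.mem_center_iff.2 fun x => Subtype.ext (Subgroup.mem_centralizer_singleton_iff.1 x.2)
    have h2 : E ⟨g 0, g0_mem⟩ ∈ Subgroup.center T := Subgroup.mem_center_iff.2 fun x => by
      obtain ⟨c, rfl⟩ := E.surjective x
      rw [← map_mul, ← map_mul]
      exact congrArg E (Subtype.ext (mem_C_comm c.2))
    have := Fact.mk Nat.prime_two
    have hne : (⟨_, h1⟩ : Subgroup.center T) ≠ 1 := fun e => by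
      have : t = 1 := congrArg (fun z : Subgroup.center T => z.1.1) e
      simp [this] at ht
    obtain ⟨k, hk⟩ : (⟨_, h2⟩ : Subgroup.center T) ∈ Subgroup.zpowers ⟨_, h1⟩ :=
      zpowers_eq_top_of_prime_card hc hne ▸ Subgroup.mem_top _
    have hv : t ^ k = (E ⟨g 0, g0_mem⟩ : G) := congrArg (fun z : Subgroup.center T => (z.1.1 : G)) hk
    show (E ⟨g 0, g0_mem⟩ : G) = t
    rcases Int.emod_two_eq_zero_or_one k with hk2 | hk2
    · exfalso
      have hone : E ⟨g 0, g0_mem⟩ = 1 := Subtype.ext (by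
        rw [← hv, ← zpow_mod_orderOf, ht, Nat.cast_ofNat, hk2, zpow_zero]
        rfl)
      exact g0_ne (congrArg Subtype.val (E.injective (hone.trans E.map_one.symm)))
    · rw [← hv, ← zpow_mod_orderOf, ht, Nat.cast_ofNat, hk2, zpow_one]

end Cfsg.Agent.Spor.Co3Uniq
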