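import Cfsg.Agent.S0215
import Cfsg.Agent.Lib.Spor.Co3Uniq.Link
import Cfsg.Agent.Lib.Spor.Co3Uniq.FusChk
import Cfsg.Prelude.Def_CaseTheorems

/-!
Fusion of involutions in a group with the involution centraliser of the model.
-/

set_option autoImplicit false
set_option maxRecDepth 100000

namespace Cfsg.Agent.Spor.Co3Uniq

open Cos Cos.Co3Out

/-- The first conjugate of the involution in the centraliser. -/
noncomputable def e1 : M := el u1C

/-- An involution of the second class. -/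
noncomputable def e2 : M := el u2C

/-- The involution as an element of the centraliser. -/
noncomputable def tC : C := ⟨g 0, g0_mem⟩

/-- An element of the centraliser by its code. -/
noncomputable def cel (N : ℕ) : C := ⟨el N, el_mem N⟩

theorem cel_tCode : cel tCode = tC := Subtype.ext el_tCode

theorem sylL_spec : Nat.card sylL.grp = 2 ^ 10 ∧
    ∀ y ∈ sylL.grp, ∃ i < 1024, el (sylL.code.at i) = y :=
  ⟨LG.card_eq syl_ok (show 0 < 1024 by norm_num), fun _ hy => LG.exists_of_mem syl_ok (show 0 < 1024 by norm_num) hy⟩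

theorem card_C_fact : (Nat.card C).factorization 2 = 10 := by
  rw [C_facts.2, show (2903040 : ℕ) = 2 ^ 10 * 2835 by norm_num, fact_two (by norm_num)]

/-- Every element of two-power order of the centraliser is conjugate into the listed Sylow subgroup. -/
theorem exists_conj_code {y : M} (hy : y ∈ C) {k : ℕ} (hk : y ^ 2 ^ k = 1) :
    ∃ c ∈ C, ∃ i < 1024, c * y * c⁻¹ = el (sylL.code.at i) := by
  have := Fact.mk Nat.prime_two
  have : Finite C := Nat.finite_of_card_ne_zero (by rw [C_facts.2]; norm_num)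
  let S : Sylow 2 C := Sylow.ofCard (sylL.grp.subgroupOf C) (by
    rw [card_C_fact, Nat.card_congr (Subgroup.subgroupOfEquivOfLe (LG.grp_le (D := sylL))).toEquiv]
    exact sylL_spec.1)
  have hP : IsPGroup 2 (Subgroup.zpowers (⟨y, hy⟩ : C)) := by
    obtain ⟨j, -, hj⟩ := (Nat.dvd_prime_pow Nat.prime_two).1
      (orderOf_dvd_of_pow_eq_one (x := (⟨y, hy⟩ : C)) (n := 2 ^ k) (Subtype.ext hk))
    exact IsPGroup.of_card (n := j) (by rw [Nat.card_zpowers, hj])
  obtain ⟨T, hT⟩ := hP.exists_le_sylow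
  obtain ⟨c, hc⟩ := MulAction.exists_smul_eq C T S
  have hmem : MulAut.conj c • (⟨y, hy⟩ : C) ∈ (S : Subgroup C) := by
    rw [← hc]
    exact ⟨_, hT (Subgroup.mem_zpowers _), rfl⟩
  obtain ⟨i, hi, e⟩ := sylL_spec.2 _ (Subgroup.mem_subgroupOf.1 hmem)
  exact ⟨c.1, c.2, i, hi, e.symm⟩

theorem fix_t : ∃ p : Fin actA.N, pi (g 0) p = p := by
  have h : ((List.range 552).any fun p => Nat.beq (actA.go [0] p) p) = true := by decide +kernel
  obtain ⟨p, hp, h⟩ := List.any_eq_true.1 h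
  refine ⟨⟨p, List.mem_range.1 hp⟩, Fin.ext ?_⟩
  rw [← ev_zero, homA.apply_ev [0] (by decide)]
  exact Nat.eq_of_beq_eq_true h

theorem fix_e1 : ∃ p : Fin actA.N, pi e1 p = p := by
  obtain ⟨p, hp, h⟩ := List.any_eq_true.1 inv_facts.2.2.2.2.2.2.2.2.2
  exact ⟨⟨p, List.mem_range.1 hp⟩, Fin.ext ((el_apply _ _).trans (Nat.eq_of_beq_eq_true h))⟩

theorem free_e2 (p : Fin actA.N) : pi e2 p ≠ p := fun e => by
  have h := List.all_eq_true.1 inv_facts.2.2.2.2.2.2.2.2.1 p (List.mem_range.2 p.2)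
  rw [← el_apply, show el u2C = e2 from rfl, e, Nat.beq_refl] at h
  exact Bool.noConfusion h

theorem not_conj_e2 {x : M} (hx : ∃ p : Fin actA.N, pi x p = p) (c : M) : c * e2 * c⁻¹ ≠ x := by
  intro e
  obtain ⟨p, hp⟩ := hx
  refine free_e2 (pi c⁻¹ p) ?_
  rw [← e, map_mul, map_mul, Equiv.Perm.mul_apply, Equiv.Perm.mul_apply] at hp
  have := congrArg (pi c⁻¹) hp
  rwa [← Equiv.Perm.mul_apply (pi c⁻¹) (pi c), ← map_mul, inv_mul_cancel, map_one, Equiv.Perm.one_apply] at this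

theorem e1_facts : e1 * e1 = 1 ∧ e1 ≠ 1 ∧ e1 ≠ g 0 ∧ e2 * e2 = 1 := by
  refine ⟨by simpa [e1] using prod_eq inv_facts.1, ?_, ?_, by simpa [e2] using prod_eq inv_facts.2.1⟩
  · simpa [e1] using prod_ne inv_facts.2.2.1
  · simpa [e1, el_tCode] using prod_ne inv_facts.2.2.2.1

/-- The classes of involutions of the centraliser. -/
theorem classify {y : M} (hy : y ∈ C) (h2 : y * y = 1) (h1 : y ≠ 1) :
    y = g 0 ∨ ∃ c ∈ C, y = c * e1 * c⁻¹ ∨ y = c * e2 * c⁻¹ := by
  obtain ⟨d, hd, i, hi, e⟩ := exists_conj_code hy (k := 1) (by rw [pow_one, sq, h2])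
  set N := sylL.code.at i
  have hy' : y = d⁻¹ * el N * d := by rw [← e]; group
  have hN2 : el N * el N = 1 := by
    rw [← e, show d * y * d⁻¹ * (d * y * d⁻¹) = d * (y * y) * d⁻¹ by group, h2]
    group
  have h := class_ok i hi
  simp only [chkClass, force_eq, Bool.or_eq_true, Bool.and_eq_true, Nat.beq_eq] at h
  rcases h with ((h | h) | h) | h
  · subst h
    refine absurd ?_ h1
    rw [hy', show N = 0 from (LG.parts syl_ok hi).2.1 rfl, el_zero]
    group
  · exact absurd hN2 (by simpa using prod_ne h.2)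
  · left
    rw [hy', show el N = g 0 from (congrArg el h.2).trans el_tCode, mul_assoc, ← mem_C_comm hd,
      inv_mul_cancel_left]
  · right
    have e' := prod_eq h.2
    simp only [List.map_cons, List.map_nil, List.prod_cons, List.prod_nil, mul_one] at e'
    refine ⟨d⁻¹ * el (sK.at i / 8), mul_mem (inv_mem hd) (el_mem _), ?_⟩
    have e'' : el N = el (sK.at i / 8) * el (repC (sK.at i % 8)) * (el (sK.at i / 8))⁻¹ := by
      rw [← e', mul_inv_cancel_right]
    rcases h.1 with hk | hk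
    · left
      rw [hy', e'', hk, show repC 3 = u1C from rfl]
      show _ = _ * el u1C * _
      group
    · right
      rw [hy', e'', hk, show repC 4 = u2C from rfl]
      show _ = _ * el u2C * _
      group

/-- The second class has no square roots in the centraliser. -/
theorem no_root {r : M} (hr : r ∈ C) {c : M} : r * r ≠ c * e2 * c⁻¹ := by
  intro e
  obtain ⟨d, hd, i, hi, e'⟩ := exists_conj_code hr (k := 2) (by
    rw [show (2 : ℕ) ^ 2 = 2 * 2 from rfl, pow_mul, sq, sq, e,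
      show c * e2 * c⁻¹ * (c * e2 * c⁻¹) = c * (e2 * e2) * c⁻¹ by group, e1_facts.2.2.2]
    group)
  set N := sylL.code.at i
  have hN : el N * el N = d * c * e2 * (d * c)⁻¹ := by
    rw [← e', show d * r * d⁻¹ * (d * r * d⁻¹) = d * (r * r) * d⁻¹ by group, e]
    group
  have h := square_ok i hi
  simp only [chkSquare, force_eq, Bool.or_eq_true, Bool.and_eq_true] at h
  rcases h with ((h | h) | h) | h
  · have h' : el N * el N = 1 := by simpa using prod_eq h.2
    obtain ⟨p, hp⟩ : ∃ p : Fin actA.N, pi (1 : M) p = p := ⟨fix_t.choose, by simp⟩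
    exact not_conj_e2 ⟨p, hp⟩ (d * c) (hN.symm.trans h')
  · have h' : el N * el N = g 0 := by simpa [el_tCode] using prod_eq h.2
    exact not_conj_e2 fix_t (d * c) (hN.symm.trans h')
  · have h' := prod_eq h.2
    simp only [List.map_cons, List.map_nil, List.prod_cons, List.prod_nil, mul_one, ← mul_assoc] at h'
    refine not_conj_e2 fix_e1 ((el (sSq.at i / 8))⁻¹ * (d * c)) ?_
    rw [mul_inv_rev, inv_inv, ← mul_assoc, mul_assoc _ (d * c) e2, mul_assoc (el (sSq.at i / 8))⁻¹,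
      mul_assoc (el (sSq.at i / 8))⁻¹, ← hN, h', ← mul_assoc, inv_mul_cancel, one_mul]
    rfl
  · have h' := prod_ne h.2
    simp only [List.map_cons, List.map_nil, List.prod_cons, List.prod_nil, mul_one] at h'
    refine h' ?_
    rw [← mul_assoc, hN, show d * c * e2 * (d * c)⁻¹ * (d * c * e2 * (d * c)⁻¹) =
      d * c * (e2 * e2) * (d * c)⁻¹ by group, e1_facts.2.2.2]
    group

universe u

/-- A group with a copy of the centraliser as an involution centraliser. -/
structure Sys (G : Type u) [Group G] where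
  /-- the copy -/
  ψ : C →* G
  inj : Function.Injective ψ
  range_eq : ψ.range = Subgroup.centralizer ({ψ tC} : Set G)

namespace Sys

variable {G : Type u} [Group G] (S : Sys G)

/-- The involution. -/
noncomputable def t : G := S.ψ tC

/-- An element by its code. -/
noncomputable def E (N : ℕ) : G := S.ψ (cel N)

theorem E_tCode : S.E tCode = S.t := by rw [E, cel_tCode]; rfl

theorem comm (c : C) : S.ψ c * S.t = S.t * S.ψ c :=
  Subgroup.mem_centralizer_singleton_iff.1 (S.range_eq ▸ ⟨c, rfl⟩)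

theorem exists_of_comm {y : G} (h : y * S.t = S.t * y) : ∃ c, S.ψ c = y :=
  (S.range_eq.symm ▸ Subgroup.mem_centralizer_singleton_iff.2 h : y ∈ S.ψ.range)

theorem coe_prod (L : List ℕ) : ((L.map cel).prod : C).1 = (L.map el).prod := by
  induction L with
  | nil => rfl
  | cons N L ih => rw [List.map_cons, List.prod_cons, List.map_cons, List.prod_cons, Subgroup.coe_mul, ih]; rfl

theorem E_prod (L : List ℕ) : (L.map S.E).prod = S.ψ ((L.map cel).prod) := by
  rw [map_list_prod, List.map_map]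
  rfl

theorem eq_of_chk {L R : List ℕ} (h : eqC L R = true) : (L.map S.E).prod = (R.map S.E).prod := by
  rw [E_prod, E_prod]
  exact congrArg S.ψ (Subtype.ext (by rw [coe_prod, coe_prod]; exact prod_eq h))

theorem t_facts : S.t * S.t = 1 ∧ S.t ≠ 1 := by
  refine ⟨?_, fun e => g0_ne (congrArg Subtype.val ((map_eq_one_iff _ S.inj).1 e))⟩
  rw [t, ← map_mul, show tC * tC = 1 from Subtype.ext (g_sq 0), map_one]

theorem orderOf_t : orderOf S.t = 2 := by
  have := Fact.mk Nat.prime_two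
  exact orderOf_eq_prime (by rw [sq, S.t_facts.1]) S.t_facts.2

theorem invol_of_conj {y : G} (h : ∃ g, g * S.t * g⁻¹ = y) : y * y = 1 ∧ y ≠ 1 := by
  obtain ⟨g, rfl⟩ := h
  refine ⟨?_, fun e => S.t_facts.2 (conj_eq_one_iff.1 e)⟩
  rw [show g * S.t * g⁻¹ * (g * S.t * g⁻¹) = g * (S.t * S.t) * g⁻¹ by group, S.t_facts.1]
  group

/-- The classes of involutions commuting with the given one. -/
theorem classify {y : G} (hc : y * S.t = S.t * y) (h2 : y * y = 1) (h1 : y ≠ 1) :
    y = S.t ∨ ∃ c : C, y = S.ψ c * S.E u1C * (S.ψ c)⁻¹ ∨ y = S.ψ c * S.E u2C * (S.ψ c)⁻¹ := by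
  obtain ⟨d, rfl⟩ := S.exists_of_comm hc
  have hd2 : d.1 * d.1 = 1 := congrArg Subtype.val (S.inj (by rw [map_mul, h2, map_one] : S.ψ (d * d) = S.ψ 1))
  have hd1 : d.1 ≠ 1 := fun e => h1 (by rw [show d = 1 from Subtype.ext e, map_one])
  rcases Co3Uniq.classify d.2 hd2 hd1 with e | ⟨c, hc', e | e⟩
  · exact Or.inl (congrArg S.ψ (Subtype.ext e))
  all_goals
    right
    refine ⟨⟨c, hc'⟩, ?_⟩
  · left
    rw [show d = ⟨c, hc'⟩ * cel u1C * (⟨c, hc'⟩)⁻¹ from Subtype.ext e, map_mul, map_mul, map_inv]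
    rfl
  · right
    rw [show d = ⟨c, hc'⟩ * cel u2C * (⟨c, hc'⟩)⁻¹ from Subtype.ext e, map_mul, map_mul, map_inv]
    rfl

theorem no_root {r : G} (hr : r * S.t = S.t * r) (c : C) : r * r ≠ S.ψ c * S.E u2C * (S.ψ c)⁻¹ := by
  intro e
  obtain ⟨d, rfl⟩ := S.exists_of_comm hr
  exact Co3Uniq.no_root d.2 (c := c.1) (congrArg Subtype.val (S.inj (by
    rw [map_mul, e, map_mul, map_mul, map_inv]
    rfl : S.ψ (d * d) = S.ψ (c * cel u2C * c⁻¹))))

/-- The second class is not fused to the given involution. -/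
theorem not_conj_u2 (g : G) : g * S.t * g⁻¹ ≠ S.E u2C := by
  intro e
  set k := g⁻¹ with hk
  have hk2 : k * S.E u2C * k⁻¹ = S.t := by rw [← e, hk]; group
  set t' := k * S.t * k⁻¹ with ht'
  have hc : t' * S.t = S.t * t' := by
    rw [← hk2, ht', show k * S.t * k⁻¹ * (k * S.E u2C * k⁻¹) = k * (S.t * S.E u2C) * k⁻¹ by group,
      show S.t * S.E u2C = S.E u2C * S.t from (S.comm (cel u2C)).symm]
    group
  obtain ⟨h2, h1⟩ := S.invol_of_conj ⟨k, ht'.symm⟩
  rcases S.classify hc h2 h1 with e' | ⟨c, e'⟩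
  · refine S.no_root (r := S.E root2) (S.comm _) 1 ?_
    have h := S.eq_of_chk inv_facts.2.2.2.2.2.1
    simp only [List.map_cons, List.map_nil, List.prod_cons, List.prod_nil, mul_one, S.E_tCode] at h
    have hu : S.E u2C = S.t := by
      have : k * S.E u2C * k⁻¹ = k * S.t * k⁻¹ := hk2.trans (ht'.symm.trans e').symm
      exact mul_left_cancel (mul_right_cancel this)
    rw [h, map_one, one_mul, inv_one, mul_one, hu]
  · suffices h : ∀ u r, eqC [r, r] [tCode] = true → eqC [r, u] [u, r] = true →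
        t' = S.ψ c * S.E u * (S.ψ c)⁻¹ → False by
      rcases e' with e' | e'
      · exact h _ _ inv_facts.2.2.2.2.1 inv_facts.2.2.2.2.2.2.1 e'
      · exact h _ _ inv_facts.2.2.2.2.2.1 inv_facts.2.2.2.2.2.2.2.1 e'
    intro u r hr hru e''
    have hr' := S.eq_of_chk hr
    have hru' := S.eq_of_chk hru
    simp only [List.map_cons, List.map_nil, List.prod_cons, List.prod_nil, mul_one, S.E_tCode] at hr' hru'
    set m := (S.ψ c)⁻¹ * k with hm
    have hmt : m * S.t * m⁻¹ = S.E u := by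
      rw [hm, show (S.ψ c)⁻¹ * k * S.t * ((S.ψ c)⁻¹ * k)⁻¹ = (S.ψ c)⁻¹ * (k * S.t * k⁻¹) * S.ψ c by group,
        ← ht', e'']
      group
    have hmu : m * S.E u2C * m⁻¹ = S.t := by
      rw [hm, show (S.ψ c)⁻¹ * k * S.E u2C * ((S.ψ c)⁻¹ * k)⁻¹ = (S.ψ c)⁻¹ * (k * S.E u2C * k⁻¹) * S.ψ c by group,
        hk2, mul_assoc, ← S.comm c, inv_mul_cancel_left]
    refine S.no_root (r := m⁻¹ * S.E r * m) ?_ 1 ?_
    · have : S.t = m⁻¹ * S.E u * m := by rw [← hmt]; group
      calc m⁻¹ * S.E r * m * S.t = m⁻¹ * (S.E r * S.E u) * m := by rw [this]; group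
        _ = S.t * (m⁻¹ * S.E r * m) := by rw [hru', this]; group
    · rw [show m⁻¹ * S.E r * m * (m⁻¹ * S.E r * m) = m⁻¹ * (S.E r * S.E r) * m by group, hr', map_one, one_mul,
        inv_one, mul_one, ← hmu]
      group

/-- The given involution is central in a Sylow subgroup. -/
theorem exists_sylow [Finite G] : ∃ P : Sylow 2 G, S.t ∈ P ∧ ∀ s ∈ P, Commute s S.t := by
  have := Fact.mk Nat.prime_two
  let K : Subgroup G := (sylL.grp.subgroupOf C).map S.ψ
  have hK : Nat.card K = 2 ^ 10 := by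
    rw [Subgroup.card_map_of_injective S.inj,
      Nat.card_congr (Subgroup.subgroupOfEquivOfLe (LG.grp_le (D := sylL))).toEquiv]
    exact sylL_spec.1
  obtain ⟨P, hP⟩ := (IsPGroup.of_card hK).exists_le_sylow
  obtain ⟨z, hz, hz1⟩ : ∃ z ∈ (Subgroup.center P).map P.1.subtype, z ≠ 1 := by
    have hne : Nontrivial P := by
      refine Finite.one_lt_card_iff_nontrivial.1 (lt_of_lt_of_le ?_ (Subgroup.card_le_of_le hP))
      rw [hK]; norm_num
    have hcn := P.2.center_nontrivial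
    obtain ⟨z, hz⟩ := exists_ne (1 : Subgroup.center P)
    exact ⟨z.1.1, ⟨z.1, z.2, rfl⟩, fun e => hz (Subtype.ext (Subtype.ext e))⟩
  obtain ⟨z, hzc, rfl⟩ := hz
  have hzall : ∀ s ∈ (P : Subgroup G), s * z.1 = z.1 * s := fun s hs =>
    congrArg Subtype.val (Subgroup.mem_center_iff.1 hzc ⟨s, hs⟩)
  have htK : S.t ∈ K := by
    refine ⟨tC, Subgroup.mem_subgroupOf.2 ?_, rfl⟩
    obtain ⟨i, hi, e⟩ : ∃ i < 1024, el (sylL.code.at i) = g 0 := by
      have h : ((List.range 1024).any fun i => Nat.beq (sN.at i) tCode) = true := by decide +kernel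
      obtain ⟨i, hi, h⟩ := List.any_eq_true.1 h
      exact ⟨i, List.mem_range.1 hi, (congrArg el (Nat.eq_of_beq_eq_true h)).trans el_tCode⟩
    show g 0 ∈ sylL.grp
    exact e ▸ LG.el_mem_grp syl_ok i hi
  obtain ⟨d, hd⟩ := S.exists_of_comm (y := z.1) (hzall _ (hP htK)).symm
  have hzK : ∀ h ∈ sylC, d.1 * el h = el h * d.1 := fun h hh => by
    have hmem : S.E h ∈ K := ⟨cel h, Subgroup.mem_subgroupOf.2 (Subgroup.subset_closure ⟨h, hh, rfl⟩), rfl⟩
    have e := (hzall _ (hP hmem)).symm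
    rw [show (P.1.subtype z : G) = z.1 from rfl] at hz1
    rw [← hd, E, ← map_mul, ← map_mul] at e
    exact congrArg Subtype.val (S.inj e)
  have hKd : ∀ y ∈ sylL.grp, d.1 * y = y * d.1 := fun y hy => by
    have hle : sylL.grp ≤ Subgroup.centralizer ({d.1} : Set M) := (Subgroup.closure_le _).2 fun _ ⟨h, hh, e⟩ =>
      Subgroup.mem_centralizer_singleton_iff.2 (e ▸ (hzK h hh).symm)
    exact (Subgroup.mem_centralizer_singleton_iff.1 (hle hy)).symm
  -- the central element lies in the listed group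
  have hdS : d.1 ∈ sylL.grp := by
    have : Finite C := Nat.finite_of_card_ne_zero (by rw [C_facts.2]; norm_num)
    let T : Sylow 2 C := Sylow.ofCard (sylL.grp.subgroupOf C) (by
      rw [card_C_fact, Nat.card_congr (Subgroup.subgroupOfEquivOfLe (LG.grp_le (D := sylL))).toEquiv]
      exact sylL_spec.1)
    have hd2 : IsPGroup 2 (Subgroup.zpowers d) := by
      obtain ⟨k, hk⟩ := P.2 z
      have : d ^ 2 ^ k = 1 := S.inj (by rw [map_pow, hd, map_one]; exact congrArg Subtype.val hk)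
      obtain ⟨j, -, hj⟩ := (Nat.dvd_prime_pow Nat.prime_two).1 (orderOf_dvd_of_pow_eq_one this)
      exact IsPGroup.of_card (n := j) (by rw [Nat.card_zpowers, hj])
    have hle : Subgroup.zpowers d ≤ Subgroup.normalizer ((T : Subgroup C) : Set C) := by
      rw [Subgroup.zpowers_le, Subgroup.mem_normalizer_iff]
      intro y
      have key : ∀ y ∈ (T : Subgroup C), d * y * d⁻¹ = y := fun y hy => Subtype.ext (by
        show d.1 * y.1 * d.1⁻¹ = y.1
        rw [hKd y.1 (Subgroup.mem_subgroupOf.1 hy), mul_inv_cancel_right])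
      refine ⟨fun hy => (key y hy).symm ▸ hy, fun hy => ?_⟩
      have e := key _ hy
      rw [mul_left_inj, mul_right_inj] at e
      exact e ▸ hy
    have hsup : IsPGroup 2 (↥(Subgroup.zpowers d ⊔ (T : Subgroup C))) := hd2.to_sup_of_normal_right' T.2 hle
    have hmem : d ∈ (T : Subgroup C) := T.is_maximal' hsup le_sup_right ▸ Subgroup.mem_sup_left (Subgroup.mem_zpowers d)
    exact Subgroup.mem_subgroupOf.1 hmem
  obtain ⟨i, hi, e⟩ := sylL_spec.2 _ hdS
  have hd1 : d.1 ≠ 1 := fun e => hz1 (by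
    rw [show d = 1 from Subtype.ext e, map_one] at hd
    exact hd.symm)
  have hzt : z.1 = S.t := by
    have h := cen_ok i hi
    simp only [chkCen, force_eq, Bool.or_eq_true, Nat.beq_eq, List.any_eq_true] at h
    rcases h with (h | h) | ⟨w, hw, h⟩
    · subst h
      rw [(LG.parts syl_ok hi).2.1 rfl, el_zero] at e
      exact absurd e.symm hd1
    · rw [h, el_tCode] at e
      rw [← hd]
      exact congrArg S.ψ (Subtype.ext e.symm)
    · refine absurd (hzK w hw) ?_
      rw [← e]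
      simpa using prod_ne h
  exact ⟨P, hP htK, fun s hs => hzt ▸ hzall s hs⟩

/-- An element exchanging the involution and its first conjugate. -/
theorem exists_swap [Finite G] (hO : Cfsg.oddCore G = ⊥) (hZ : Subgroup.center G = ⊥) :
    ∃ x : G, x * S.t * x⁻¹ = S.E u1C ∧ x * S.E u1C * x⁻¹ = S.t := by
  obtain ⟨P, htP, hPc⟩ := S.exists_sylow
  obtain ⟨g, hgP, hne⟩ : ∃ g : G, g * S.t * g⁻¹ ∈ P ∧ g * S.t * g⁻¹ ≠ S.t := by
    by_contra hcon
    push Not at hcon
    obtain ⟨N, hN, hNo, hcom⟩ := S0215.result P S.t S.orderOf_t htP hcon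
    have hNb : N = ⊥ := by
      refine le_bot_iff.1 (hO ▸ le_sSup ?_)
      exact ⟨hN, Nat.coprime_two_right.2 hNo⟩
    refine S.t_facts.2 (Subgroup.mem_bot.1 (hZ ▸ Subgroup.mem_center_iff.2 fun g => ?_))
    have h1 := hcom g
    rw [hNb, Subgroup.mem_bot, mul_inv_eq_one, mul_inv_eq_iff_eq_mul] at h1
    exact h1.symm
  have fused : ∀ g : G, g * S.t * g⁻¹ * S.t = S.t * (g * S.t * g⁻¹) → g * S.t * g⁻¹ ≠ S.t →
      ∃ h : C, g * S.t * g⁻¹ = S.ψ h * S.E u1C * (S.ψ h)⁻¹ := fun g hc hne => by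
    obtain ⟨h2, h1⟩ := S.invol_of_conj ⟨g, rfl⟩
    rcases S.classify hc h2 h1 with e | ⟨c, e | e⟩
    · exact absurd e hne
    · exact ⟨c, e⟩
    · refine absurd ?_ (S.not_conj_u2 ((S.ψ c)⁻¹ * g))
      rw [show (S.ψ c)⁻¹ * g * S.t * ((S.ψ c)⁻¹ * g)⁻¹ = (S.ψ c)⁻¹ * (g * S.t * g⁻¹) * S.ψ c by group, e]
      group
  obtain ⟨h, hh⟩ := fused g (hPc _ hgP) hne
  set k := (S.ψ h)⁻¹ * g with hk
  have hk1 : k * S.t * k⁻¹ = S.E u1C := by
    rw [hk, show (S.ψ h)⁻¹ * g * S.t * ((S.ψ h)⁻¹ * g)⁻¹ = (S.ψ h)⁻¹ * (g * S.t * g⁻¹) * S.ψ h by group, hh]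
    group
  have hk2 : k⁻¹ * S.t * k⁻¹⁻¹ * S.t = S.t * (k⁻¹ * S.t * k⁻¹⁻¹) := by
    have e : S.E u1C * S.t = S.t * S.E u1C := S.comm _
    rw [← hk1] at e
    have := congrArg (fun y => k⁻¹ * y * k) e
    simp only [← mul_assoc, inv_mul_cancel, one_mul, inv_mul_cancel_right, inv_inv] at this ⊢
    exact this.symm
  have hk3 : k⁻¹ * S.t * k⁻¹⁻¹ ≠ S.t := fun e => by
    have e' : k * S.t * k⁻¹ = S.t := by
      calc k * S.t * k⁻¹ = k * (k⁻¹ * S.t * k⁻¹⁻¹) * k⁻¹ := by rw [e]
        _ = _ := by group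
    exact e1_facts.2.2.1 (congrArg Subtype.val (S.inj (hk1.symm.trans e') : cel u1C = tC))
  obtain ⟨h', hh'⟩ := fused _ hk2 hk3
  refine ⟨k * S.ψ h', ?_, ?_⟩
  · rw [mul_inv_rev, mul_assoc k, S.comm h', ← mul_assoc k, ← mul_assoc, mul_inv_cancel_right]
    exact hk1
  · rw [show k * S.ψ h' * S.E u1C * (k * S.ψ h')⁻¹ = k * (S.ψ h' * S.E u1C * (S.ψ h')⁻¹) * k⁻¹ by group, ← hh']
    group

end Sys

end Cfsg.Agent.Spor.Co3Uniq
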