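import Cfsg.Agent.Lib.Spor.Co3Uniq.Defs
import Cfsg.Agent.Lib.Spor.Co3Uniq.LinkData
import Cfsg.Agent.Lib.Classical.SpSix.Two

/-!
The checks tying the centraliser to the symplectic group through quadratic forms on the fixed points.
-/

set_option autoImplicit false

namespace Cfsg.Agent.Spor.Co3Uniq

open Cos

/-- The fixed points of the involution. -/
noncomputable def fixB (p : ℕ) : Bool := Nat.beq (Co3Out.actA.go [0] p) p

/-- A lift moves the forms as its transvection. -/
noncomputable def chkForm (s p : ℕ) : Bool :=
  !(fixB p) || force (app (gamW.getD s 0) p) fun q => force (formT.at q) fun F => force (formT.at p) fun F' =>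
    fixB q && (List.range 64).all fun v =>
      Bool.rec (!(F'.testBit v)) (F'.testBit v) (F.testBit (Cfsg.Agent.Classical.SpSix.actA.im v s))

/-- The forms on the fixed points tell vectors apart. -/
noncomputable def chkSep (v : ℕ) : Bool :=
  (List.range 64).all fun w => Nat.beq v w || (List.range 552).any fun p =>
    fixB p && !(Bool.rec (!((formT.at p).testBit v)) ((formT.at p).testBit v) ((formT.at p).testBit w))

/-- The commutator rows are commutators. -/
noncomputable def chkCommRow : ℕ × List ℕ → Bool
  | (c, [a, b, ai, bi, x, y, xi, yi]) =>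
    eqC [a, ai] [] && eqC [b, bi] [] && eqC [x, xi] [] && eqC [y, yi] [] && eqC [a, b, ai, bi, x, y, xi, yi] [c]
  | _ => false

end Cfsg.Agent.Spor.Co3Uniq
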