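import Cfsg.Agent.Lib.Spor.Co3Uniq.Code

/-!
Subgroups of the centraliser given as lists of codes.
-/

set_option autoImplicit false

namespace Cfsg.Agent.Spor.Co3Uniq

open Cos Cos.Co3Out

/-- A list of codes with steps by generators and parents. -/
structure LG where
  /-- the number of elements -/
  m : ℕ
  /-- the codes -/
  code : Tab
  /-- the generators -/
  gens : List ℕ
  /-- the products with generators -/
  step : Tab
  /-- depth, parent and generator -/
  par : Tab

/-- The check at one index. -/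
noncomputable def LG.chk (D : LG) (i : ℕ) : Bool :=
  force (D.code.at i) fun N =>
    (bif Nat.beq i 0 then Nat.beq N 0 else Nat.blt (D.code.at (i - 1)) N) && Nat.blt N total &&
    ((List.range D.gens.length).all fun s => force (D.step.at (i * D.gens.length + s)) fun j =>
      Nat.blt j D.m && eqC [N, D.gens.getD s 0] [D.code.at j]) &&
    (Nat.beq i 0 || force (D.par.at i) fun e => force (e / 16 % 65536) fun j =>
      Nat.blt j D.m && Nat.blt (e % 16) D.gens.length && Nat.beq (D.step.at (j * D.gens.length + e % 16)) i &&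
        Nat.blt (D.par.at j / 1048576) (e / 1048576))

/-- The group of a list. -/
noncomputable def LG.grp (D : LG) : Subgroup M := Subgroup.closure {y | ∃ N ∈ D.gens, y = el N}

variable {D : LG}

theorem el_zero : el 0 = 1 := by
  have h : ∀ r < 4, (pathW (off r)).isEmpty = true := by decide +kernel
  have z : ∀ r < 4, lg (off r) = 1 := fun r hr => by rw [lg, List.isEmpty_iff.1 (h r hr), ev]
  show lg (off 0) * (lg (off 1) * (lg (off 2) * lg (off 3))) = 1
  rw [z 0 (by omega), z 1 (by omega), z 2 (by omega), z 3 (by omega), one_mul, one_mul, one_mul]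

theorem LG.parts (h : ∀ i < D.m, D.chk i = true) {i : ℕ} (hi : i < D.m) :
    D.code.at i < total ∧ (i = 0 → D.code.at i = 0) ∧ (i ≠ 0 → D.code.at (i - 1) < D.code.at i) ∧
      (∀ s < D.gens.length, D.step.at (i * D.gens.length + s) < D.m ∧
        el (D.code.at i) * el (D.gens.getD s 0) = el (D.code.at (D.step.at (i * D.gens.length + s)))) ∧
      (i ≠ 0 → ∃ j s, j < D.m ∧ s < D.gens.length ∧ D.step.at (j * D.gens.length + s) = i ∧
        D.par.at j / 1048576 < D.par.at i / 1048576) := by
  have h0 := h i hi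
  simp only [LG.chk, force_eq, Bool.and_eq_true, List.all_eq_true] at h0
  refine ⟨Nat.le_of_ble_eq_true h0.1.1.2, fun e => ?_, fun e => ?_, fun s hs => ?_, fun e => ?_⟩
  · have := h0.1.1.1
    rw [e, show Nat.beq 0 0 = true from rfl, cond_true] at this
    rw [e]
    exact Nat.eq_of_beq_eq_true this
  · have := h0.1.1.1
    rw [show Nat.beq i 0 = false from Bool.eq_false_iff.2 fun e' => e (Nat.eq_of_beq_eq_true e'), cond_false] at this
    exact Nat.le_of_ble_eq_true this
  · have := h0.1.2 s (List.mem_range.2 hs)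
    exact ⟨Nat.le_of_ble_eq_true this.1, by simpa using prod_eq this.2⟩
  · have := h0.2
    rw [show Nat.beq i 0 = false from Bool.eq_false_iff.2 fun e' => e (Nat.eq_of_beq_eq_true e'), Bool.false_or] at this
    simp only [Bool.and_eq_true] at this
    exact ⟨_, _, Nat.le_of_ble_eq_true this.1.1.1, Nat.le_of_ble_eq_true this.1.1.2,
      Nat.eq_of_beq_eq_true this.1.2, Nat.le_of_ble_eq_true this.2⟩

theorem LG.code_strict (h : ∀ i < D.m, D.chk i = true) {i : ℕ} : ∀ {j : ℕ}, i < j → j < D.m →
    D.code.at i < D.code.at j := by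
  intro j hij
  induction hij with
  | refl => exact fun hj => (LG.parts h hj).2.2.1 (Nat.succ_ne_zero i)
  | step hle ih => exact fun hj => (ih (Nat.lt_of_succ_lt hj)).trans ((LG.parts h hj).2.2.1 (Nat.succ_ne_zero _))

theorem LG.gen_mem {s : ℕ} (hs : s < D.gens.length) : el (D.gens.getD s 0) ∈ D.grp :=
  Subgroup.subset_closure ⟨_, by rw [List.getD_eq_getElem _ _ hs]; exact List.getElem_mem _, rfl⟩

theorem LG.el_mem_grp (h : ∀ i < D.m, D.chk i = true) :
    ∀ i < D.m, el (D.code.at i) ∈ D.grp := by
  suffices hk : ∀ k i, i < D.m → D.par.at i / 1048576 ≤ k → el (D.code.at i) ∈ D.grp from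
    fun i hi => hk _ i hi le_rfl
  intro k
  induction k using Nat.strong_induction_on with
  | _ k ih =>
    intro i hi hk
    rcases Nat.eq_zero_or_pos i with rfl | hpos
    · rw [(LG.parts h hi).2.1 rfl, el_zero]
      exact one_mem _
    obtain ⟨j, s, hj, hs, he, hd⟩ := (LG.parts h hi).2.2.2.2 hpos.ne'
    have := ((LG.parts h hj).2.2.2.1 s hs).2
    rw [he] at this
    rw [← this]
    exact mul_mem (ih _ (lt_of_lt_of_le hd hk) j hj le_rfl) (LG.gen_mem hs)

theorem LG.exists_of_mem (h : ∀ i < D.m, D.chk i = true) (h0 : 0 < D.m) {y : M} (hy : y ∈ D.grp) :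
    ∃ i < D.m, el (D.code.at i) = y := by
  rw [LG.grp, ← Subgroup.mem_toSubmonoid, Subgroup.closure_toSubmonoid_of_finite] at hy
  induction hy using Submonoid.closure_induction_right with
  | one => exact ⟨0, h0, by rw [(LG.parts h h0).2.1 rfl, el_zero]⟩
  | mul_right y _ g hg ih =>
    obtain ⟨i, hi, rfl⟩ := ih
    obtain ⟨N, hN, rfl⟩ := hg
    obtain ⟨s, hs, rfl⟩ := List.mem_iff_getElem.1 hN
    have := (LG.parts h hi).2.2.2.1 s hs
    exact ⟨_, this.1, by rw [← List.getD_eq_getElem _ 0 hs]; exact this.2.symm⟩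

theorem LG.card_eq (h : ∀ i < D.m, D.chk i = true) (h0 : 0 < D.m) : Nat.card D.grp = D.m := by
  let f : Fin D.m → D.grp := fun i => ⟨el (D.code.at i), LG.el_mem_grp h i i.2⟩
  rw [← Nat.card_congr (Equiv.ofBijective f ⟨fun i j e => ?_, fun y => ?_⟩), Nat.card_fin]
  · have he := el_inj (LG.parts h i.2).1 (LG.parts h j.2).1 (congrArg Subtype.val e)
    rcases lt_trichotomy (i : ℕ) j with hlt | heq | hgt
    · exact absurd he (LG.code_strict h hlt j.2).ne
    · exact Fin.ext heq
    · exact absurd he (LG.code_strict h hgt i.2).ne'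
  · obtain ⟨i, hi, e⟩ := LG.exists_of_mem h h0 y.2
    exact ⟨⟨i, hi⟩, Subtype.ext e⟩

theorem LG.grp_le : D.grp ≤ C := (Subgroup.closure_le _).2 fun _ ⟨_, _, e⟩ => e ▸ el_mem _

/-- Two products of codes differ at the base. -/
noncomputable def neC (L R : List ℕ) : Bool :=
  (L.all fun N => Nat.blt N total) && (R.all fun N => Nat.blt N total) &&
    [1, 0, 2, 3].any fun p => force (appW L p) fun a => !(Nat.beq a (appW R p))

theorem prod_ne {L R : List ℕ} (h : neC L R = true) : (L.map el).prod ≠ (R.map el).prod := by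
  intro e
  simp only [neC, Bool.and_eq_true, force_eq, List.any_eq_true] at h
  obtain ⟨-, p, hp, hne⟩ := h
  have hlt : p < actA.N := by
    have : ∀ q ∈ [1, 0, 2, 3], q < actA.N := by decide
    exact this p hp
  have := congrArg (fun y => (pi y ⟨p, hlt⟩ : ℕ)) e
  simp only [appW_apply] at this
  rw [this, Nat.beq_refl] at hne
  exact Bool.noConfusion hne

end Cfsg.Agent.Spor.Co3Uniq
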