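import Cfsg.Agent.Lib.Spor.Co3Uniq.PinDefs

/-! Checks for the action of the swap. -/

set_option autoImplicit false
set_option maxRecDepth 100000
set_option maxHeartbeats 4000000

namespace Cfsg.Agent.Spor.Co3Uniq

open Cos

theorem bL_ok : ∀ i < 4608, bL.chk i = true := by
  refine of_blocks (size := 600) (b := 8) (by decide) (by decide) fun j hj => ?_
  interval_cases j <;> decide +kernel

end Cfsg.Agent.Spor.Co3Uniq
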