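import Cfsg.Agent.Lib.Spor.Co3Uniq.PinDefs

/-! Checks for the action of the swap. -/

set_option autoImplicit false
set_option maxRecDepth 100000
set_option maxHeartbeats 4000000

namespace Cfsg.Agent.Spor.Co3Uniq

open Cos

theorem tr_ok : ∀ i < 3150, chkTr i = true := by
  refine of_blocks (size := 600) (b := 6) (by decide) (by decide) fun j hj => ?_
  interval_cases j <;> decide +kernel

theorem kind_ok : ∀ i < 4608, chkKind i = true := by
  refine of_blocks (size := 1200) (b := 4) (by decide) (by decide) fun j hj => ?_
  interval_cases j <;> decide +kernel

theorem cenB_ok : ∀ i < 4608, chkCenB i = true := by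
  refine of_blocks (size := 1200) (b := 4) (by decide) (by decide) fun j hj => ?_
  interval_cases j <;> decide +kernel

end Cfsg.Agent.Spor.Co3Uniq
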