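import Cfsg.Agent.Lib.Spor.Co3Uniq.PinDefs

/-! Checks for the action of the swap. -/

set_option autoImplicit false
set_option maxRecDepth 100000
set_option maxHeartbeats 4000000

namespace Cfsg.Agent.Spor.Co3Uniq

open Cos

theorem entry_ok : ∀ i < 9720, chkEntry i = true := by
  refine of_blocks (size := 700) (b := 14) (by decide) (by decide) fun j hj => ?_
  interval_cases j <;> decide +kernel

theorem leaf_ok : ((List.range 24).all chkLeaf) = true := by decide +kernel

theorem pin_facts : (relL.all fun r => (r.1.all fun s => Nat.blt s 3) &&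
      bif r.2 then eqC (sub bGen r.1) [] else neC (sub bGen r.1) []) = true ∧
    eqC (sub bGen tWord) [tCode] = true ∧ eqC (sub bGen uWord) [u1C] = true ∧
    ((tWord ++ uWord).all fun s => Nat.blt s 3) = true ∧
    (bGen.all fun h => eqC [h, u1C] [u1C, h]) = true ∧
    ((List.range 3).all fun j => eqC [bGen.getD j 0, bFree.getD j 0] [bFree.getD j 0, u2C]) = true ∧
    bGen.length = 3 ∧ nodeL.length = 27 ∧ leafL.length = 24 ∧ trT.at 0 = 0 ∧
    ((nodeL.getD 0 [1]) == []) = true ∧ (nodeL.all fun q => Nat.blt q.length 3) = true ∧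
    ((List.range 27).all fun n => Nat.beq (nodeL.getD n []).length (bif Nat.beq n 0 then 0 else bif Nat.blt n 3 then 1 else 2))
      = true := by
  decide +kernel

end Cfsg.Agent.Spor.Co3Uniq
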