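import Cfsg.Agent.Lib.Spor.Co3Uniq.PinDefs

/-! The swap in the model. -/

set_option autoImplicit false
set_option maxRecDepth 100000
set_option maxHeartbeats 4000000

namespace Cfsg.Agent.Spor.Co3Uniq

open Cos

/-- The image of a point under the swap. -/
noncomputable def appS (p : ℕ) : ℕ := force (app sigC p) fun q => Co3Out.actA.go sigW q

/-- The swap carries one code to another. -/
noncomputable def chkSig (a b : ℕ) : Bool :=
  Co3Out.ptsA.all fun p => force (appS (app a p)) fun q => Nat.beq q (app b (appS p))

theorem sig_ok : (sigW.all fun s => Nat.blt s 5) = true ∧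
    (Co3Out.ptsA.all fun p => Nat.beq (appS (appS p)) p) = true ∧ chkSig tCode u1C = true ∧
    ((List.range 3).all fun j => chkSig (bGen.getD j 0) (bImg.getD j 0)) = true := by
  decide +kernel

end Cfsg.Agent.Spor.Co3Uniq
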