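import Cfsg.Agent.Lib.Spor.Co3Uniq.Fusion
import Cfsg.Agent.Lib.Spor.Co3Uniq.PinChk0
import Cfsg.Agent.Lib.Spor.Co3Uniq.PinChk1
import Cfsg.Agent.Lib.Spor.Co3Uniq.PinChk2
import Cfsg.Agent.Lib.Spor.Co3Uniq.SigChk

/-!
The swap acts on the centraliser of the two involutions as in the model, and can be taken of order two.
-/

set_option autoImplicit false
set_option maxRecDepth 100000

namespace Cfsg.Agent.Spor.Co3Uniq

open Cos Cos.Co3Out

/-- The swap in the model. -/
noncomputable def sigM : M := ev g sigW * el sigC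

theorem sigM_apply (p : Fin actA.N) : (pi sigM p : ℕ) = appS p := by
  rw [sigM, map_mul, Equiv.Perm.mul_apply,
    homA.apply_ev _ (fun s hs => Nat.le_of_ble_eq_true (List.all_eq_true.1 sig_ok.1 s hs)), el_apply, appS, force_eq]

theorem sigM_sq : sigM * sigM = 1 := det _ fun q hq => Fin.ext <| by
  rw [map_mul, Equiv.Perm.mul_apply, sigM_apply, sigM_apply]
  exact Nat.eq_of_beq_eq_true (List.all_eq_true.1 sig_ok.2.1 _ hq)

theorem sigM_carry {a b : ℕ} (h : chkSig a b = true) : sigM * el a = el b * sigM := by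
  refine (inv_mul_eq_one.1 (det ((el b * sigM)⁻¹ * (sigM * el a)) fun q hq => ?_)).symm
  rw [map_mul, map_inv, Equiv.Perm.mul_apply, Equiv.Perm.inv_eq_iff_eq]
  refine Fin.ext ?_
  have := List.all_eq_true.1 h _ hq
  rw [force_eq] at this
  rw [map_mul, map_mul, Equiv.Perm.mul_apply, Equiv.Perm.mul_apply, sigM_apply, el_apply, el_apply, sigM_apply]
  exact Nat.eq_of_beq_eq_true this

theorem sigM_swap : sigM * g 0 * sigM = e1 ∧ sigM * e1 * sigM = g 0 := by
  have h := sigM_carry sig_ok.2.2.1
  rw [el_tCode] at h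
  have h' : sigM * g 0 * sigM = e1 := by rw [h, mul_assoc, sigM_sq, mul_one]; rfl
  refine ⟨h', ?_⟩
  rw [← h', show sigM * (sigM * g 0 * sigM) * sigM = sigM * sigM * g 0 * (sigM * sigM) by simp only [mul_assoc],
    sigM_sq, one_mul, mul_one]

theorem e1_mem : e1 ∈ C := el_mem _

theorem bL_le : bL.grp ≤ Subgroup.centralizer ({e1} : Set M) := (Subgroup.closure_le _).2 fun _ ⟨h, hh, e⟩ => by
  rw [e, SetLike.mem_coe, Subgroup.mem_centralizer_singleton_iff]
  simpa [e1] using prod_eq (List.all_eq_true.1 pin_facts.2.2.2.2.1 h hh)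

/-- Every element of the centraliser is a transversal element times one of the listed group. -/
theorem exists_tr {c : M} (hc : c ∈ C) : ∃ m < 630, ∃ b ∈ bL.grp, c = el (trT.at m) * b := by
  have hv : C ≤ Subgroup.closure {y | ∃ s < 5, y = cg s} := by
    show Co3Out.C ≤ _
    rw [← C_facts.1, ← cenG_eq]
    refine (Subgroup.closure_le _).2 ?_
    rintro _ ⟨w, hw, rfl⟩
    obtain ⟨i, hi, rfl⟩ := List.mem_iff_getElem.1 hw
    exact Subgroup.subset_closure ⟨i, cenG_len ▸ hi, by rw [cg, List.getD_eq_getElem _ _ hi]⟩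
  suffices hall : ∀ y ∈ Subgroup.closure {y | ∃ s < 5, y = cg s}, ∃ m < 630, ∃ b ∈ bL.grp, y = el (trT.at m) * b from
    hall c (hv hc)
  intro y hy
  have : Finite C := Nat.finite_of_card_ne_zero (by rw [C_facts.2]; norm_num)
  rw [← Subgroup.mem_toSubmonoid, Subgroup.closure_toSubmonoid_of_finite] at hy
  induction hy using Submonoid.closure_induction_left with
  | one => exact ⟨0, by norm_num, 1, one_mem _, by rw [pin_facts.2.2.2.2.2.2.2.2.2.1, el_zero, one_mul]⟩
  | mul_left x hx y _ ih =>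
    obtain ⟨s, hs, rfl⟩ := hx
    obtain ⟨m, hm, b, hb, rfl⟩ := ih
    have h := tr_ok (5 * m + s) (by omega)
    simp only [chkTr, force_eq, Bool.and_eq_true, show (5 * m + s) / 5 = m by omega,
      show (5 * m + s) % 5 = s by omega] at h
    have hcode : el (commW.getD s (0, [])).1 = cg s := eq_of_app (el_mem _) (cg_mem s) fun p hp => by
      rw [el_apply, cg_apply hs]
      exact Nat.eq_of_beq_eq_true
        (List.all_eq_true.1 (List.all_eq_true.1 root_ok.2.2.2.2.2.1 s (List.mem_range.2 hs)) _ hp)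
    refine ⟨_, Nat.le_of_ble_eq_true h.1.1.1, _,
      mul_mem (LG.el_mem_grp bL_ok _ (Nat.le_of_ble_eq_true h.1.1.2)) hb, ?_⟩
    have e := prod_eq h.1.2
    simp only [List.map_cons, List.map_nil, List.prod_cons, List.prod_nil, mul_one] at e
    rw [← mul_assoc, ← hcode, e, mul_assoc]
    rfl

/-- The centraliser of the two involutions is the listed group. -/
theorem mem_bL {c : M} (hc : c ∈ C) (h : c * e1 = e1 * c) : c ∈ bL.grp := by
  obtain ⟨m, hm, b, hb, rfl⟩ := exists_tr hc
  rcases Nat.eq_zero_or_pos m with rfl | hpos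
  · rw [pin_facts.2.2.2.2.2.2.2.2.2.1, el_zero, one_mul]
    exact hb
  exfalso
  have hbu : b * e1 = e1 * b := Subgroup.mem_centralizer_singleton_iff.1 (bL_le hb)
  have hm' := tr_ok (5 * m) (by omega)
  simp only [chkTr, force_eq, Bool.and_eq_true, Bool.or_eq_true, Nat.beq_eq,
    show 5 * m / 5 = m by omega] at hm'
  rcases hm'.2 with h0 | h0
  · omega
  · refine (prod_ne h0) ?_
    simp only [List.map_cons, List.map_nil, List.prod_cons, List.prod_nil, mul_one]
    refine mul_right_cancel (b := b) ?_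
    rw [mul_assoc, show el u1C = e1 from rfl, ← hbu, ← mul_assoc, h, mul_assoc]

namespace Sys

universe u

variable {G : Type u} [Group G] (S : Sys G)

/-- The first conjugate. -/
noncomputable def u : G := S.E u1C

theorem E_inj {a b : ℕ} (h : S.E a = S.E b) : el a = el b := congrArg Subtype.val (S.inj h)

theorem ne_of_chk {L R : List ℕ} (h : neC L R = true) : (L.map S.E).prod ≠ (R.map S.E).prod := by
  rw [E_prod, E_prod]
  intro e
  exact prod_ne h (by rw [← coe_prod, ← coe_prod, S.inj e])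

/-- The swap carries one code to another. -/
def Car (x : G) (a b : ℕ) : Prop := x * S.E a = S.E b * x

theorem car_word {x : G} {qs gs : List ℕ} (h : ∀ j < qs.length, S.Car x (gs.getD j 0) (qs.getD j 0)) :
    ∀ w : List ℕ, (∀ s ∈ w, s < qs.length) →
      x * ((sub gs w).map S.E).prod = ((sub qs w).map S.E).prod * x
  | [], _ => by simp [sub]
  | s :: w, hw => by
    simp only [sub, List.map_cons, List.prod_cons]
    rw [← mul_assoc, show x * S.E (gs.getD s 0) = S.E (qs.getD s 0) * x from h s (hw s (List.mem_cons_self ..)),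
      mul_assoc, mul_assoc]
    exact congrArg _ (car_word h w fun t ht => hw t (List.mem_cons_of_mem _ ht))

/-- Exchanging the two involutions. -/
def Swap (x : G) : Prop := x * S.t * x⁻¹ = S.u ∧ x * S.u * x⁻¹ = S.t

theorem comm_u {d : ℕ} (h : eqC [d, u1C] [u1C, d] = true) : S.E d * S.u = S.u * S.E d := by
  simpa [u] using S.eq_of_chk h

theorem swap_mul {x : G} (hx : S.Swap x) {d : ℕ} (h : eqC [d, u1C] [u1C, d] = true) : S.Swap (S.E d * x) := by
  constructor
  · rw [show S.E d * x * S.t * (S.E d * x)⁻¹ = S.E d * (x * S.t * x⁻¹) * (S.E d)⁻¹ by group, hx.1, S.comm_u h,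
      mul_inv_cancel_right]
  · rw [show S.E d * x * S.u * (S.E d * x)⁻¹ = S.E d * (x * S.u * x⁻¹) * (S.E d)⁻¹ by group, hx.2,
      show S.E d * S.t = S.t * S.E d from S.comm _, mul_inv_cancel_right]

/-- A free involution is carried to a listed one. -/
theorem exists_free {x : G} (hx : S.Swap x) {a : ℕ} (hau : S.E a * S.u = S.u * S.E a)
    (hfree : ∃ h, eqC [a, h] [h, u2C] = true) : ∃ z < 360, S.Car x a (freeT.at z) := by
  obtain ⟨h, hh⟩ := hfree
  have hh' : S.E a = S.E h * S.E u2C * (S.E h)⁻¹ := by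
    have := S.eq_of_chk hh
    simp only [List.map_cons, List.map_nil, List.prod_cons, List.prod_nil, mul_one] at this
    rw [← this, mul_inv_cancel_right]
  set y := x * S.E a * x⁻¹ with hy
  have hyt : y * S.t = S.t * y := by
    rw [← hx.2, hy, show x * S.E a * x⁻¹ * (x * S.u * x⁻¹) = x * (S.E a * S.u) * x⁻¹ by group, hau]
    group
  have hyu : y * S.u = S.u * y := by
    rw [← hx.1, hy, show x * S.E a * x⁻¹ * (x * S.t * x⁻¹) = x * (S.E a * S.t) * x⁻¹ by group,
      show S.E a * S.t = S.t * S.E a from S.comm _]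
    group
  obtain ⟨d, hd⟩ := S.exists_of_comm hyt
  have hdu : d.1 * e1 = e1 * d.1 := congrArg Subtype.val (S.inj (by
    rw [map_mul, map_mul, hd]; exact hyu : S.ψ (d * cel u1C) = S.ψ (cel u1C * d)))
  obtain ⟨i, hi, e⟩ := LG.exists_of_mem bL_ok (show 0 < 4608 by norm_num) (mem_bL d.2 hdu)
  have hN : S.E (bN.at i) = y := (congrArg S.ψ (Subtype.ext e)).trans hd
  have ha2 : S.E a * S.E a = 1 := by
    have e2 : S.E u2C * S.E u2C = 1 := by simpa using S.eq_of_chk inv_facts.2.1
    rw [hh', show S.E h * S.E u2C * (S.E h)⁻¹ * (S.E h * S.E u2C * (S.E h)⁻¹) =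
      S.E h * (S.E u2C * S.E u2C) * (S.E h)⁻¹ by group, e2]
    group
  have hy2 : y * y = 1 := by
    rw [hy, show x * S.E a * x⁻¹ * (x * S.E a * x⁻¹) = x * (S.E a * S.E a) * x⁻¹ by group, ha2]
    group
  -- the image is not fused to the involution
  have hfuse : ∀ k : G, y ≠ k * S.t * k⁻¹ := fun k e => S.not_conj_u2 ((S.E h)⁻¹ * x⁻¹ * k) (by
    rw [show (S.E h)⁻¹ * x⁻¹ * k * S.t * ((S.E h)⁻¹ * x⁻¹ * k)⁻¹ =
      (S.E h)⁻¹ * x⁻¹ * (k * S.t * k⁻¹) * x * S.E h by group, ← e, hy, hh']
    group)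
  have hk := kind_ok i hi
  simp only [chkKind, force_eq, Bool.or_eq_true, Bool.and_eq_true, Nat.beq_eq] at hk
  rcases hk with (((hk | hk) | hk) | hk) | hk
  · exfalso
    subst hk
    have hz : S.E (bN.at 0) = 1 := by
      rw [E, show cel (bN.at 0) = 1 from Subtype.ext (by
        show el (bL.code.at 0) = 1
        rw [(LG.parts bL_ok hi).2.1 rfl, el_zero]), map_one]
    rw [hz] at hN
    have : S.E a = 1 := conj_eq_one_iff.1 (hy ▸ hN.symm)
    have h1 : S.E u2C = 1 := conj_eq_one_iff.1 (hh' ▸ this)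
    have h2 : e2 = 1 := by
      have := congrArg Subtype.val (S.inj (h1.trans S.ψ.map_one.symm))
      exact this
    obtain ⟨p, hp⟩ := fix_t
    exact free_e2 p (by rw [h2, map_one, Equiv.Perm.one_apply])
  · exact absurd (hN.symm ▸ hy2 : S.E (bN.at i) * S.E (bN.at i) = 1) (by simpa using S.ne_of_chk hk.2)
  · exact absurd (hN.symm.trans ((congrArg S.E hk.2).trans S.E_tCode)) (by simpa using hfuse 1)
  · refine absurd ?_ (hfuse (S.E (bKind.at i / 8) * x))
    have := S.eq_of_chk hk.2
    simp only [List.map_cons, List.map_nil, List.prod_cons, List.prod_nil, mul_one] at this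
    rw [← hN, eq_mul_inv_of_mul_eq this, mul_inv_rev, show S.E u1C = S.u from rfl, ← hx.1]
    group
  · refine ⟨_, Nat.le_of_ble_eq_true hk.1.2, ?_⟩
    rw [Car, show freeT.at (bKind.at i / 8) = bN.at i from hk.2, hN, hy]
    group

theorem gens_free : ∀ j < 3, S.E (bGen.getD j 0) * S.u = S.u * S.E (bGen.getD j 0) ∧
    ∃ h, eqC [bGen.getD j 0, h] [h, u2C] = true := fun j hj => by
  refine ⟨S.comm_u ?_, _, List.all_eq_true.1 pin_facts.2.2.2.2.2.1 j (List.mem_range.2 hj)⟩
  have hl : j < bGen.length := pin_facts.2.2.2.2.2.2.1.symm ▸ hj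
  exact List.all_eq_true.1 pin_facts.2.2.2.2.1 _ (List.getD_eq_getElem _ 0 hl ▸ List.getElem_mem _)

theorem node_len {n : ℕ} (hn : n < 27) :
    (nodeL.getD n []).length = if n = 0 then 0 else if n < 3 then 1 else 2 := by
  have h := List.all_eq_true.1 pin_facts.2.2.2.2.2.2.2.2.2.2.2.2 n (List.mem_range.2 hn)
  rw [Nat.beq_eq] at h
  rw [h]
  rcases Nat.eq_zero_or_pos n with rfl | hp
  · rfl
  · rw [show Nat.beq n 0 = false from Bool.eq_false_iff.2 fun e => hp.ne' (Nat.eq_of_beq_eq_true e), cond_false,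
      if_neg hp.ne']
    rcases lt_or_ge n 3 with h3 | h3
    · rw [show Nat.blt n 3 = true from Nat.ble_eq_true_of_le h3, cond_true, if_pos h3]
    · rw [show Nat.blt n 3 = false from Bool.eq_false_iff.2 fun e => (Nat.le_of_ble_eq_true e).not_gt (by omega),
        cond_false, if_neg (not_lt.2 h3)]

/-- A node can be extended to a child. -/
theorem step {x : G} (hx : S.Swap x) {n : ℕ} (hn : n < 27)
    (hcar : ∀ j < (nodeL.getD n []).length, S.Car x (bGen.getD j 0) ((nodeL.getD n []).getD j 0)) :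
    ∃ x' m, S.Swap x' ∧ childBase (nodeL.getD n []).length ≤ m ∧ m < allQ.length ∧
      (allQ.getD m []).length = (nodeL.getD n []).length + 1 ∧
      ∀ j < (allQ.getD m []).length, S.Car x' (bGen.getD j 0) ((allQ.getD m []).getD j 0) := by
  set q := nodeL.getD n [] with hq
  have hlen : q.length < 3 := by
    have := node_len hn
    rw [← hq] at this
    split_ifs at this <;> omega
  obtain ⟨z, hz, hcz⟩ := S.exists_free hx (S.gens_free _ hlen).1 (S.gens_free _ hlen).2
  have h := entry_ok (n * 360 + z) (by omega)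
  simp only [chkEntry, force_eq, show (n * 360 + z) % 360 = z by omega, show (n * 360 + z) / 360 = n by omega,
    ← hq] at h
  set e := nodeT.at (n * 360 + z)
  set zc := freeT.at z
  have hext : ∀ j < (q ++ [zc]).length, S.Car x (bGen.getD j 0) ((q ++ [zc]).getD j 0) := fun j hj => by
    rw [List.length_append, List.length_singleton] at hj
    rcases Nat.lt_or_ge j q.length with hlt | hge
    · rw [List.getD_append _ _ _ _ hlt]
      exact hcar j hlt
    · obtain rfl : j = q.length := by omega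
      rw [List.getD_append_right _ _ _ _ le_rfl, Nat.sub_self]
      exact hcz
  rcases Bool.eq_false_or_eq_true (Nat.beq (e % 2) 0) with he | he
  · exfalso
    rw [he, cond_true] at h
    simp only [Bool.and_eq_true, List.all_eq_true] at h
    set r := relL.getD (e / 2) ([], true)
    have hrel : r ∈ relL := by
      show relL.getD (e / 2) ([], true) ∈ relL
      rw [List.getD_eq_getElem _ _ (Nat.le_of_ble_eq_true h.1.1)]
      exact List.getElem_mem _
    have hl : ∀ s ∈ r.1, s < (q ++ [zc]).length := fun s hs => by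
      rw [List.length_append, List.length_singleton]
      exact Nat.lt_succ_of_le (Nat.le_of_ble_eq_true (h.1.2 s hs))
    have hw := S.car_word hext r.1 hl
    have hb := List.all_eq_true.1 pin_facts.1 r hrel
    rw [Bool.and_eq_true] at hb
    obtain ⟨w, b⟩ := r
    cases b
    · simp only [cond_false] at hb h
      have h1 := S.eq_of_chk h.2
      rw [h1, List.map_nil, List.prod_nil, one_mul] at hw
      exact S.ne_of_chk hb.2 (by
        rw [List.map_nil, List.prod_nil]
        exact mul_left_cancel (hw.trans (mul_one x).symm))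
    · simp only [cond_true] at hb h
      have h1 := S.eq_of_chk hb.2
      rw [h1, List.map_nil, List.prod_nil, mul_one] at hw
      exact S.ne_of_chk h.2 (by
        rw [List.map_nil, List.prod_nil]
        exact mul_right_cancel (hw.symm.trans (one_mul x).symm))
  · rw [he, cond_false] at h
    simp only [Bool.and_eq_true, beq_iff_eq, List.all_eq_true] at h
    set d := e / 2 % 4194304
    set c := allQ.getD (childBase q.length + e / 2 / 4194304) [] with hc
    obtain ⟨⟨⟨⟨hm, hcq⟩, hconj⟩, hdq⟩, hdu⟩ := h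
    refine ⟨S.E d * x, _, S.swap_mul hx hdu, Nat.le_add_right _ _, Nat.le_of_ble_eq_true hm,
      by rw [← hc, hcq, List.length_append, List.length_singleton], fun j hj => ?_⟩
    rw [← hc] at hj ⊢
    have hconj' := S.eq_of_chk hconj
    simp only [List.map_cons, List.map_nil, List.prod_cons, List.prod_nil, mul_one] at hconj'
    rw [hcq, List.length_append, List.length_singleton] at hj
    rcases Nat.lt_or_ge j q.length with hlt | hge
    · have hjm : q.getD j 0 ∈ q := by rw [List.getD_eq_getElem _ _ hlt]; exact List.getElem_mem _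
      have := S.eq_of_chk (hdq _ hjm)
      simp only [List.map_cons, List.map_nil, List.prod_cons, List.prod_nil, mul_one] at this
      rw [Car, hcq, List.getD_append _ _ _ _ hlt, mul_assoc, show x * S.E (bGen.getD j 0) = _ from hcar j hlt,
        ← mul_assoc, this, mul_assoc]
    · obtain rfl : j = q.length := by omega
      rw [Car, mul_assoc, show x * S.E (bGen.getD q.length 0) = _ from hcz, ← mul_assoc, hconj', mul_assoc]

theorem child_cases {m : ℕ} (h2 : m < allQ.length) :
    (m < 27 ∧ nodeL.getD m [] = allQ.getD m []) ∨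
      (27 ≤ m ∧ m < 51 ∧ leafL.getD (m - 27) [] = allQ.getD m [] ∧ (allQ.getD m []).length = 3) := by
  have hl : nodeL.length = 27 := pin_facts.2.2.2.2.2.2.2.1
  have hl' : leafL.length = 24 := pin_facts.2.2.2.2.2.2.2.2.1
  rw [allQ, List.length_append, hl, hl'] at h2
  rcases Nat.lt_or_ge m 27 with hm | hm
  · exact Or.inl ⟨hm, by rw [allQ, List.getD_append _ _ _ _ (hl.symm ▸ hm)]⟩
  · refine Or.inr ⟨hm, by omega, by rw [allQ, List.getD_append_right _ _ _ _ (hl.symm ▸ hm), hl], ?_⟩
    have hc := List.all_eq_true.1 leaf_ok (m - 27) (List.mem_range.2 (by omega))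
    simp only [chkLeaf, Bool.and_eq_true, Nat.beq_eq] at hc
    rw [allQ, List.getD_append_right _ _ _ _ (hl.symm ▸ hm), hl]
    exact hc.1

/-- Some swap carries the generators to a leaf. -/
theorem exists_leaf {x : G} (hx : S.Swap x) : ∃ x' l, S.Swap x' ∧ l < 24 ∧ (leafL.getD l []).length = 3 ∧
    ∀ j < 3, S.Car x' (bGen.getD j 0) ((leafL.getD l []).getD j 0) := by
  have go : ∀ k n x, S.Swap x → n < 27 → 3 ≤ (nodeL.getD n []).length + k →
      (∀ j < (nodeL.getD n []).length, S.Car x (bGen.getD j 0) ((nodeL.getD n []).getD j 0)) →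
      ∃ x' l, S.Swap x' ∧ l < 24 ∧ (leafL.getD l []).length = 3 ∧
        ∀ j < 3, S.Car x' (bGen.getD j 0) ((leafL.getD l []).getD j 0) := by
    intro k
    induction k with
    | zero =>
      intro n x _ hn h
      have := node_len hn
      split_ifs at this <;> omega
    | succ k ih =>
      intro n x hx hn h hcar
      obtain ⟨x', m, hx', h1, h2, h3, h4⟩ := S.step hx hn hcar
      rcases child_cases h2 with ⟨hm, e⟩ | ⟨hm, hm', e, hlen⟩
      · exact ih m x' hx' hm (by rw [e, h3]; omega) (by rw [e]; exact h4)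
      · exact ⟨x', m - 27, hx', by omega, e.symm ▸ hlen, fun j hj => e.symm ▸ h4 j (hlen.symm ▸ hj)⟩
  refine go 3 0 x hx (by norm_num) (by omega) fun j hj => ?_
  rw [node_len (by norm_num : 0 < 27), if_pos rfl] at hj
  omega

theorem fixN_conj {a b : ℕ} {c : M} (h : el b = c * el a * c⁻¹) : fixN a = fixN b := by
  classical
  have key : ∀ N, fixN N = Nat.card {p : Fin actA.N // pi (el N) p = p} := fun N => by
    rw [fixN, Nat.card_eq_fintype_card, Fintype.card_subtype,
      ← List.toFinset_card_of_nodup (List.Nodup.filter _ List.nodup_range)]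
    refine Finset.card_bij (fun p hp => (⟨p, ?_⟩ : Fin actA.N)) (fun p hp => ?_) (fun p _ q _ e => congrArg Fin.val e)
      fun p hp => ?_
    · simp only [List.mem_toFinset, List.mem_filter, List.mem_range] at hp
      exact hp.1
    · simp only [List.mem_toFinset, List.mem_filter, List.mem_range, Nat.beq_eq] at hp
      simp only [Finset.mem_filter, Finset.mem_univ, true_and]
      exact Fin.ext ((el_apply _ _).trans hp.2)
    · simp only [Finset.mem_filter, Finset.mem_univ, true_and] at hp
      refine ⟨p, ?_, Fin.ext rfl⟩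
      simp only [List.mem_toFinset, List.mem_filter, List.mem_range, Nat.beq_eq]
      exact ⟨p.2, (el_apply _ _).symm.trans (congrArg Fin.val hp)⟩
  rw [key, key]
  refine Nat.card_congr ((pi c).subtypeEquiv fun p => ?_)
  rw [h, map_mul, map_mul, Equiv.Perm.mul_apply, Equiv.Perm.mul_apply, ← Equiv.Perm.mul_apply (pi c⁻¹) (pi c),
    ← map_mul, inv_mul_cancel, map_one, Equiv.Perm.one_apply, (pi c).injective.eq_iff]

/-- Some swap carries the generators as in the model. -/
theorem exists_model_swap {x : G} (hx : S.Swap x) :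
    ∃ x' : G, S.Swap x' ∧ ∀ j < 3, S.Car x' (bGen.getD j 0) (bImg.getD j 0) := by
  obtain ⟨x, l, hx, hl, hlen, hcar⟩ := S.exists_leaf hx
  set q := leafL.getD l [] with hq
  have h := List.all_eq_true.1 leaf_ok l (List.mem_range.2 hl)
  simp only [chkLeaf, ← hq, Bool.and_eq_true, Bool.or_eq_true, Nat.beq_eq, List.all_eq_true] at h
  have hwl : ∀ {s}, s ∈ tWord ++ uWord → s < q.length := fun hs =>
    hlen.symm ▸ Nat.le_of_ble_eq_true (List.all_eq_true.1 pin_facts.2.2.2.1 _ hs)
  have hcar' : ∀ j < q.length, S.Car x (bGen.getD j 0) (q.getD j 0) := fun j hj => hcar j (hlen ▸ hj)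
  obtain ⟨-, ((h | h) | h) | h⟩ := h
  · exfalso
    have hw := S.car_word hcar' tWord fun s hs => hwl (List.mem_append_left _ hs)
    have ht := S.eq_of_chk pin_facts.2.1
    simp only [List.map_cons, List.map_nil, List.prod_cons, List.prod_nil, mul_one, S.E_tCode] at ht
    rw [ht] at hw
    refine S.ne_of_chk h.2 ?_
    simp only [List.map_cons, List.map_nil, List.prod_cons, List.prod_nil, mul_one]
    rw [show S.E u1C = S.u from rfl, ← hx.1, hw, mul_inv_cancel_right]
  · exfalso
    have hw := S.car_word hcar' uWord fun s hs => hwl (List.mem_append_right _ hs)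
    have ht := S.eq_of_chk pin_facts.2.2.1
    simp only [List.map_cons, List.map_nil, List.prod_cons, List.prod_nil, mul_one] at ht
    rw [ht] at hw
    refine S.ne_of_chk h.2 ?_
    simp only [List.map_cons, List.map_nil, List.prod_cons, List.prod_nil, mul_one, S.E_tCode]
    rw [← hx.2, show S.u = S.E u1C from rfl, hw, mul_inv_cancel_right]
  · refine ⟨S.E (leafK.getD l (0, 0)).2 * x, S.swap_mul hx h.1.2, fun j hj => ?_⟩
    have hc := S.eq_of_chk (h.2 j (List.mem_range.2 hj))
    simp only [List.map_cons, List.map_nil, List.prod_cons, List.prod_nil, mul_one] at hc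
    rw [Car, mul_assoc, show x * S.E (bGen.getD j 0) = _ from hcar j hj, ← mul_assoc, hc, mul_assoc]
  · exfalso
    simp only [Bool.not_eq_true', ← Bool.not_eq_true, Nat.beq_eq] at h
    obtain ⟨-, ⟨⟨⟨⟨⟨⟨⟨hlw, h1⟩, h2⟩, h3⟩, h4⟩, h5⟩, h6⟩, hne⟩⟩ := h
    set w := witL.getD (leafK.getD l (0, 0)).2 ([], [])
    have hword : ∀ k, ∀ s ∈ w.1.getD k [], s < q.length := fun k s hs => by
      rw [hlen]
      rcases Nat.lt_or_ge k w.1.length with hk | hk
      · rw [List.getD_eq_getElem _ _ hk] at hs
        exact Nat.le_of_ble_eq_true (hlw _ (List.getElem_mem _) s hs)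
      · rw [List.getD_eq_default _ _ hk] at hs
        exact absurd hs List.not_mem_nil
    have c0 := S.car_word hcar' _ (hword 0)
    have c1 := S.car_word hcar' _ (hword 1)
    have c2 := S.car_word hcar' _ (hword 2)
    have p1 := S.eq_of_chk h1
    have p2 := S.eq_of_chk h2
    have p3 := S.eq_of_chk h3
    have p4 := S.eq_of_chk h4
    have p5 := S.eq_of_chk h5
    have p6 := S.eq_of_chk h6
    simp only [List.map_cons, List.map_nil, List.map_append, List.prod_cons, List.prod_nil, List.prod_append,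
      mul_one] at p1 p2 p3 p4 p5 p6
    set P0 := ((sub bGen (w.1.getD 0 [])).map S.E).prod
    set Q0 := ((sub q (w.1.getD 0 [])).map S.E).prod
    set P1 := ((sub bGen (w.1.getD 1 [])).map S.E).prod
    set P2 := ((sub bGen (w.1.getD 2 [])).map S.E).prod
    set h' := S.E (w.2.getD 0 0)
    set h'' := S.E (w.2.getD 1 0)
    rw [p5] at c1
    rw [p6] at c2
    set A1 := S.E (w.2.getD 2 0) with hA1
    set A2 := S.E (w.2.getD 3 0) with hA2
    have eA1 : A1 = x * P1 * x⁻¹ := by rw [c1, mul_inv_cancel_right]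
    have eA2 : A2 = x * P2 * x⁻¹ := by rw [c2, mul_inv_cancel_right]
    have eP1 : P1 = h'⁻¹ * P0 * h' := by rw [mul_assoc, ← p1, inv_mul_cancel_left]
    have eP2 : P2 = h''⁻¹ * Q0 * h'' := by rw [mul_assoc, ← p3, inv_mul_cancel_left]
    have eQ0 : Q0 = x * P0 * x⁻¹ := by rw [c0, mul_inv_cancel_right]
    set gg := x * h''⁻¹ * x * h' * x⁻¹ with hgg
    have hconj : A2 = gg * A1 * gg⁻¹ := by
      rw [eA2, eA1, eP2, eQ0, eP1, hgg]
      group
    have hu : ∀ {P h : G}, P * (P * h) = h * S.E u1C →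
        x * (h⁻¹ * P * h) * x⁻¹ * (x * (h⁻¹ * P * h) * x⁻¹) = S.t := fun {P h} e => by
      rw [show x * (h⁻¹ * P * h) * x⁻¹ * (x * (h⁻¹ * P * h) * x⁻¹) = x * (h⁻¹ * (P * (P * h))) * x⁻¹ by group, e,
        inv_mul_cancel_left]
      exact hx.2
    have hs1 : A1 * A1 = S.t := by rw [eA1, eP1]; exact hu p2
    have hs2 : A2 * A2 = S.t := by rw [eA2, eP2]; exact hu p4
    have hgt : gg * S.t = S.t * gg := by
      have : gg * (A1 * A1) * gg⁻¹ = A2 * A2 := by rw [hconj]; group
      rw [hs1, hs2] at this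
      exact mul_inv_eq_iff_eq_mul.1 this
    obtain ⟨c, hc⟩ := S.exists_of_comm hgt
    refine hne (fixN_conj (c := c.1) ?_)
    exact congrArg Subtype.val (S.inj (by
      rw [map_mul, map_mul, map_inv, hc]
      exact hconj : S.ψ (cel (w.2.getD 3 0)) = S.ψ (c * cel (w.2.getD 2 0) * c⁻¹)))

theorem sigM_mem {b : C} (h : b.1 * e1 = e1 * b.1) : sigM * b.1 * sigM ∈ C := by
  refine Subgroup.mem_centralizer_singleton_iff.2 ?_
  calc sigM * b.1 * sigM * g 0 = sigM * b.1 * (sigM * g 0 * sigM) * sigM := by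
        rw [show sigM * b.1 * (sigM * g 0 * sigM) * sigM = sigM * b.1 * sigM * g 0 * (sigM * sigM) by
          simp only [mul_assoc], sigM_sq, mul_one]
    _ = sigM * (b.1 * e1) * sigM := by rw [sigM_swap.1]; simp only [mul_assoc]
    _ = sigM * (e1 * b.1) * sigM := by rw [h]
    _ = sigM * e1 * sigM * (sigM * b.1 * sigM) := by
        rw [show sigM * e1 * sigM * (sigM * b.1 * sigM) = sigM * e1 * (sigM * sigM) * b.1 * sigM by
          simp only [mul_assoc], sigM_sq, mul_one]
        simp only [mul_assoc]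
    _ = g 0 * (sigM * b.1 * sigM) := by rw [sigM_swap.2]

theorem conj_image {x : G} (hcar : ∀ j < 3, S.Car x (bGen.getD j 0) (bImg.getD j 0)) {b : C}
    (hb : b.1 * e1 = e1 * b.1) : x * S.ψ b = S.ψ ⟨sigM * b.1 * sigM, sigM_mem hb⟩ * x := by
  suffices hh : ∀ y ∈ bL.grp, ∃ (h : y ∈ C) (h' : sigM * y * sigM ∈ C),
      x * S.ψ ⟨y, h⟩ = S.ψ ⟨sigM * y * sigM, h'⟩ * x by
    obtain ⟨_, _, e⟩ := hh b.1 (mem_bL b.2 hb)
    exact e
  intro y hy
  have : Finite C := Nat.finite_of_card_ne_zero (by rw [C_facts.2]; norm_num)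
  rw [LG.grp, ← Subgroup.mem_toSubmonoid, Subgroup.closure_toSubmonoid_of_finite] at hy
  induction hy using Submonoid.closure_induction with
  | mem y hy =>
    obtain ⟨N, hN, rfl⟩ := hy
    obtain ⟨j, hj, rfl⟩ := List.mem_iff_getElem.1 hN
    have hj3 : j < 3 := pin_facts.2.2.2.2.2.2.1 ▸ hj
    rw [show bL.gens[j] = bGen.getD j 0 from (List.getD_eq_getElem _ 0 hj).symm]
    have e : sigM * el (bGen.getD j 0) * sigM = el (bImg.getD j 0) := by
      rw [sigM_carry (List.all_eq_true.1 sig_ok.2.2.2 j (List.mem_range.2 hj3)), mul_assoc, sigM_sq, mul_one]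
    refine ⟨el_mem _, e.symm ▸ el_mem _, ?_⟩
    rw [show (⟨sigM * el (bGen.getD j 0) * sigM, e.symm ▸ el_mem _⟩ : C) = cel (bImg.getD j 0) from Subtype.ext e]
    exact hcar j hj3
  | one =>
    refine ⟨one_mem _, by rw [mul_one, sigM_sq]; exact one_mem _, ?_⟩
    rw [show (⟨1, one_mem _⟩ : C) = 1 from rfl, map_one, mul_one,
      show (⟨sigM * 1 * sigM, _⟩ : C) = 1 from Subtype.ext (by show sigM * 1 * sigM = 1; rw [mul_one, sigM_sq]),
      map_one, one_mul]
  | mul a b _ _ ha hb =>
    obtain ⟨a1, a2, a3⟩ := ha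
    obtain ⟨b1, b2, b3⟩ := hb
    have e : sigM * (a * b) * sigM = sigM * a * sigM * (sigM * b * sigM) := by
      rw [show sigM * a * sigM * (sigM * b * sigM) = sigM * a * (sigM * sigM) * b * sigM by simp only [mul_assoc],
        sigM_sq, mul_one]
      simp only [mul_assoc]
    refine ⟨mul_mem a1 b1, e.symm ▸ mul_mem a2 b2, ?_⟩
    rw [show (⟨a * b, mul_mem a1 b1⟩ : C) = ⟨a, a1⟩ * ⟨b, b1⟩ from rfl, map_mul, ← mul_assoc, a3, mul_assoc, b3,
      ← mul_assoc, ← map_mul]
    exact congrArg (fun z => S.ψ z * x) (Subtype.ext e.symm)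

/-- The data of the swap: it acts as the model's and squares to the identity. -/
def Good (x : G) : Prop := S.Swap x ∧ x * x = 1 ∧
  ∀ (b : C) (hb : b.1 * e1 = e1 * b.1), x * S.ψ b = S.ψ ⟨sigM * b.1 * sigM, sigM_mem hb⟩ * x

theorem exists_good [Finite G] (hO : Cfsg.oddCore G = ⊥) (hZ : Subgroup.center G = ⊥) : ∃ x, S.Good x := by
  obtain ⟨x0, h0⟩ := S.exists_swap hO hZ
  obtain ⟨x, hx, hcar⟩ := S.exists_model_swap (x := x0) h0
  have hconj := fun b hb => S.conj_image hcar (b := b) hb
  have hxt : x * x * S.t = S.t * (x * x) := by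
    have e1' : x * S.t = S.u * x := by rw [← hx.1]; group
    have e2' : x * S.u = S.t * x := by rw [← hx.2]; group
    rw [mul_assoc x x, e1', ← mul_assoc, e2', mul_assoc]
  have hxu : x * x * S.u = S.u * (x * x) := by
    have e1' : x * S.t = S.u * x := by rw [← hx.1]; group
    have e2' : x * S.u = S.t * x := by rw [← hx.2]; group
    rw [mul_assoc x x, e2', ← mul_assoc, e1', mul_assoc]
  obtain ⟨z, hz⟩ := S.exists_of_comm hxt
  have hzu : z.1 * e1 = e1 * z.1 := congrArg Subtype.val (S.inj (by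
    rw [map_mul, map_mul, hz]; exact hxu : S.ψ (z * cel u1C) = S.ψ (cel u1C * z)))
  obtain ⟨i, hi, e⟩ := LG.exists_of_mem bL_ok (show 0 < 4608 by norm_num) (mem_bL z.2 hzu)
  have hzN : S.ψ z = S.E (bN.at i) := congrArg S.ψ (Subtype.ext e.symm)
  have hcen : ∀ h ∈ bGen, S.E (bN.at i) * S.E h = S.E h * S.E (bN.at i) := fun h hh => by
    have hb : el h * e1 = e1 * el h := by simpa [e1] using prod_eq (List.all_eq_true.1 pin_facts.2.2.2.2.1 h hh)
    have h1 := hconj (cel h) hb
    have hb' : sigM * el h * sigM * e1 = e1 * (sigM * el h * sigM) := by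
      rw [← sigM_swap.1]
      calc sigM * el h * sigM * (sigM * g 0 * sigM) = sigM * (el h * g 0) * sigM := by
            rw [show sigM * el h * sigM * (sigM * g 0 * sigM) = sigM * el h * (sigM * sigM) * g 0 * sigM by
              simp only [mul_assoc], sigM_sq, mul_one]
            simp only [mul_assoc]
        _ = sigM * (g 0 * el h) * sigM := by rw [mem_C_comm (el_mem h)]
        _ = _ := by
            rw [show sigM * g 0 * sigM * (sigM * el h * sigM) = sigM * g 0 * (sigM * sigM) * el h * sigM by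
              simp only [mul_assoc], sigM_sq, mul_one]
            simp only [mul_assoc]
    have h2 := hconj ⟨_, sigM_mem (b := cel h) hb⟩ hb'
    rw [show (⟨sigM * (sigM * (cel h).1 * sigM) * sigM, _⟩ : C) = cel h from Subtype.ext (by
      show sigM * (sigM * el h * sigM) * sigM = el h
      rw [show sigM * (sigM * el h * sigM) * sigM = sigM * sigM * el h * (sigM * sigM) by simp only [mul_assoc],
        sigM_sq, one_mul, mul_one])] at h2
    rw [← hzN, hz, mul_assoc, show x * S.E h = _ from h1, ← mul_assoc, h2, mul_assoc]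
    rfl
  have hfix : S.E (bN.at i) * x = x * S.E (bN.at i) := by rw [← hzN, hz, mul_assoc]
  have hne : S.t ≠ S.u := fun e => e1_facts.2.2.1 (congrArg Subtype.val (S.inj e : tC = cel u1C)).symm
  have htu : S.t * S.u = S.u * S.t := (S.comm (cel u1C)).symm
  have key : x * x = 1 ∨ x * x = S.t * S.u := by
    have hz' : x * x = S.E (bN.at i) := hz.symm.trans hzN
    have h := cenB_ok i hi
    simp only [chkCenB, force_eq, Bool.or_eq_true, Nat.beq_eq, List.any_eq_true] at h
    rcases h with (((h | h) | h) | h) | ⟨w, hw, h⟩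
    · left
      rw [hz', h, E, show cel 0 = 1 from Subtype.ext el_zero, map_one]
    · exfalso
      rw [h, S.E_tCode] at hfix
      exact hne (by rw [← hx.1, ← hfix, mul_inv_cancel_right])
    · exfalso
      rw [h, show S.E u1C = S.u from rfl] at hfix
      exact hne (by rw [← hx.2, ← hfix, mul_inv_cancel_right])
    · right
      rw [hz']
      simpa [S.E_tCode, u] using S.eq_of_chk h
    · exact absurd (hcen w hw) (by simpa using S.ne_of_chk h)
  rcases key with k | k
  · exact ⟨x, hx, k, hconj⟩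
  refine ⟨x * S.t, ⟨?_, ?_⟩, ?_, fun b hb => ?_⟩
  · rw [mul_inv_rev, mul_assoc x, S.t_facts.1, mul_one, show x * (S.t⁻¹ * x⁻¹) = (x * S.t * x⁻¹)⁻¹ by group, hx.1]
    refine inv_eq_of_mul_eq_one_right ?_
    simpa [u] using S.eq_of_chk inv_facts.1
  · rw [show x * S.t * S.u * (x * S.t)⁻¹ = x * (S.t * S.u * S.t⁻¹) * x⁻¹ by group, htu, mul_inv_cancel_right]
    exact hx.2
  · rw [show x * S.t * (x * S.t) = x * S.t * x⁻¹ * (x * x) * S.t by group, hx.1, k, htu,
      show S.u * (S.u * S.t) * S.t = S.u * S.u * (S.t * S.t) by simp only [mul_assoc], S.t_facts.1, mul_one]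
    simpa [u] using S.eq_of_chk inv_facts.1
  · rw [mul_assoc, show S.t * S.ψ b = S.ψ b * S.t from (S.comm b).symm, ← mul_assoc, hconj b hb, mul_assoc]

end Sys

end Cfsg.Agent.Spor.Co3Uniq
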