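import Cfsg.Agent.Lib.Spor.Co3Uniq.ListGrp
import Cfsg.Agent.Lib.Spor.Co3Uniq.LinkData
import Cfsg.Agent.Lib.Spor.Co3Uniq.FusData
import Cfsg.Agent.Lib.Spor.Co3Uniq.PinData

/-!
The checks finding the action of the swap on the centraliser of two involutions: a tree over the images of three
generators.
-/

set_option autoImplicit false

namespace Cfsg.Agent.Spor.Co3Uniq

open Cos

/-- The centraliser of the two involutions. -/
def bL : LG := ⟨4608, bN, bGen, bStep, bPar⟩

/-- The codes of a word in some codes. -/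
def sub (G : List ℕ) (w : List ℕ) : List ℕ := w.map fun s => G.getD s 0

/-- The transversal is closed up to the subgroup. -/
noncomputable def chkTr (i : ℕ) : Bool :=
  force (trStep.at i) fun e =>
    Nat.blt (e / 8192) 630 && Nat.blt (e % 8192) 4608 &&
      eqC [(commW.getD (i % 5) (0, [])).1, trT.at (i / 5)] [trT.at (e / 8192), bN.at (e % 8192)] &&
      (Nat.beq (i / 5) 0 || neC [trT.at (i / 5), u1C] [u1C, trT.at (i / 5)])

/-- The kind of an element. -/
noncomputable def chkKind (i : ℕ) : Bool :=
  force (bN.at i) fun N => force (bKind.at i) fun e =>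
    Nat.beq i 0 || (Nat.beq (e % 8) 1 && neC [N, N] []) || (Nat.beq (e % 8) 2 && Nat.beq N tCode) ||
      (Nat.beq (e % 8) 3 && eqC [N, e / 8] [e / 8, u1C]) ||
      (Nat.beq (e % 8) 4 && Nat.blt (e / 8) 360 && Nat.beq (freeT.at (e / 8)) N)

/-- An element is one of four or not central. -/
noncomputable def chkCenB (i : ℕ) : Bool :=
  force (bN.at i) fun N =>
    Nat.beq N 0 || Nat.beq N tCode || Nat.beq N u1C || eqC [N] [tCode, u1C] ||
      bGen.any fun h => neC [N, h] [h, N]

/-- The first child of a level. -/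
def childBase (d : ℕ) : ℕ := [1, 3].getD d 27

/-- The nodes and leaves. -/
def allQ : List (List ℕ) := nodeL ++ leafL

/-- A candidate at a node is killed by a relation or is conjugate to a child. -/
noncomputable def chkEntry (i : ℕ) : Bool :=
  force (freeT.at (i % 360)) fun z => force (nodeT.at i) fun e =>
    (fun q : List ℕ =>
      bif Nat.beq (e % 2) 0 then
        (fun r : List ℕ × Bool => Nat.blt (e / 2) relL.length && (r.1.all fun s => Nat.ble s q.length) &&
          bif r.2 then neC (sub (q ++ [z]) r.1) [] else eqC (sub (q ++ [z]) r.1) [])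
        (relL.getD (e / 2) ([], true))
      else
        force (e / 2 % 4194304) fun d =>
          (fun c : List ℕ => Nat.blt (childBase q.length + e / 2 / 4194304) allQ.length &&
            c == q ++ [c.getD q.length 0] && eqC [d, z] [c.getD q.length 0, d] &&
            (q.all fun y => eqC [d, y] [y, d]) && eqC [d, u1C] [u1C, d])
          (allQ.getD (childBase q.length + e / 2 / 4194304) []))
    (nodeL.getD (i / 360) [])

/-- The fixed points of a code are counted. -/
noncomputable def fixN (N : ℕ) : ℕ := ((List.range 552).filter fun p => Nat.beq (app N p) p).length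

/-- The end of a leaf. -/
noncomputable def chkLeaf (l : ℕ) : Bool :=
  (fun q : List ℕ => (fun k : ℕ × ℕ =>
    Nat.beq q.length 3 &&
    ((Nat.beq k.1 1 && neC (sub q tWord) [u1C]) || (Nat.beq k.1 2 && neC (sub q uWord) [tCode]) ||
      (Nat.beq k.1 3 && eqC [k.2, u1C] [u1C, k.2] &&
        ((List.range 3).all fun j => eqC [k.2, q.getD j 0] [bImg.getD j 0, k.2])) ||
      (Nat.beq k.1 4 && (fun w : List (List ℕ) × List ℕ =>
        (w.1.all fun v => v.all fun s => Nat.blt s 3) &&
        eqC (w.2.getD 0 0 :: sub bGen (w.1.getD 1 [])) (sub bGen (w.1.getD 0 []) ++ [w.2.getD 0 0]) &&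
        eqC (sub bGen (w.1.getD 0 []) ++ (sub bGen (w.1.getD 0 []) ++ [w.2.getD 0 0])) [w.2.getD 0 0, u1C] &&
        eqC (w.2.getD 1 0 :: sub bGen (w.1.getD 2 [])) (sub q (w.1.getD 0 []) ++ [w.2.getD 1 0]) &&
        eqC (sub q (w.1.getD 0 []) ++ (sub q (w.1.getD 0 []) ++ [w.2.getD 1 0])) [w.2.getD 1 0, u1C] &&
        eqC (sub q (w.1.getD 1 [])) [w.2.getD 2 0] && eqC (sub q (w.1.getD 2 [])) [w.2.getD 3 0] &&
        !(Nat.beq (fixN (w.2.getD 2 0)) (fixN (w.2.getD 3 0)))) (witL.getD k.2 ([], [])))))
    (leafK.getD l (0, 0))) (leafL.getD l [])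

end Cfsg.Agent.Spor.Co3Uniq
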