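import Cfsg.Agent.Lib.Spor.Co3Uniq.RelDefs

/-! Checks of the relations between adjacent conjugates. -/

set_option autoImplicit false
set_option maxRecDepth 100000
set_option maxHeartbeats 4000000

namespace Cfsg.Agent.Spor.Co3Uniq

open Cos

theorem cenT_ok : ∀ i < 4608, chkCenT i = true := by
  refine of_blocks (size := 1200) (b := 4) (by decide) (by decide) fun j hj => ?_
  interval_cases j <;> decide +kernel

theorem pair_ok : ((List.range 37).all chkPair) = true := by decide +kernel

theorem rel_facts : eqC [hC, u1C] [wC, hC] = true ∧ eqC [hC, wC] [u1C, hC] = true ∧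
    eqC [wC, u1C] [u1C, wC] = true ∧ chkSig wC wC = true ∧
    eqC [betC, u1C] [tCode, u1C, betC] = true ∧ eqC [betC, tCode, u1C] [u1C, betC] = true ∧
    eqC [cC, u1C] [u1C, cC] = true ∧ eqC [cC, wC] [wC, cC] = true ∧ eqC [dC, u1C] [u1C, dC] = true ∧
    chkCube hC cC = true ∧ chkCube betC dC = true ∧
    (tGen.all fun h => eqC [h, u1C] [u1C, h] && eqC [h, wC] [wC, h]) = true ∧
    eightL.getD 0 1 = 0 ∧ eightL.getD 7 0 = eC ∧ eightL.length = 8 ∧
    ((List.range 6).all fun j => chkMove hC (eightL.getD (j + 1) 0)) = true ∧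
    chkMove betC tCode = true ∧ chkMove betC u1C = true ∧ chkMove betC (eightL.getD 4 0) = true ∧
    eqC [eightL.getD 4 0] [tCode, u1C] = true ∧ eqC [ceC] [eC, cC] = true := by
  decide +kernel

theorem kill_facts : ((List.range 4).all chkKill) = true ∧
    eqC [ent killL 1 0] [ent killL 0 5, ent killL 2 0] = true ∧
    eqC [ent killL 3 0] [ent killL 0 0, ent killL 2 4] = true ∧
    eqC [killE.getD 2 0] [ent killL 0 4, ent killL 1 4] = true ∧
    eqC [ent killL 1 5] [killE.getD 0 0, killE.getD 5 0] = true ∧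
    eqC [killE.getD 4 0] [ent killL 3 4] = true ∧
    eqC [killE.getD 5 0] [ent killL 3 5, ent killL 2 5] = true ∧
    eqC [killE.getD 0 0, u1C] [u1C, killE.getD 0 0] = true ∧ chkSig (killE.getD 0 0) (killE.getD 1 0) = true ∧
    neC [killE.getD 2 0, killE.getD 1 0] [killE.getD 4 0] = true := by
  decide +kernel

end Cfsg.Agent.Spor.Co3Uniq
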