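import Cfsg.Agent.Lib.Spor.Cos.Bst

/-! Data for the uniqueness of a group on 552 points: the relations of adjacent conjugates. -/

set_option autoImplicit false
set_option maxRecDepth 100000
set_option maxHeartbeats 4000000

namespace Cfsg.Agent.Spor.Co3Uniq

open Cos

/-- The third involution. -/
def wC : ℕ := 1088640

/-- The exchange of the second and third. -/
def hC : ℕ := 362880

/-- The exchange inside the four group. -/
def betC : ℕ := 307210

/-- The cubes. -/
def cC : ℕ := 0

/-- The cube for the four group. -/
def dC : ℕ := 1121602

/-- The product of the three. -/
def eC : ℕ := 708264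

/-- The false cube. -/
def ceC : ℕ := 708264

/-- The eight. -/
def eightL : List ℕ := [0, 2885544, 1451520, 1088640, 2522664, 1071144, 1814400, 708264]

/-- Generators of the centraliser of the three. -/
def tGen : List ℕ := [254837, 2318997, 1453493, 1617213, 2878633]

/-- The pairs of adjacent conjugates. -/
def pairL : List (List ℕ) := [[495313, 495313, 132433, 132433, 362880, 1809025], [512865, 1874874, 149985, 2600634, 362880, 60978], [686070, 1330368, 323190, 967488, 362880, 2108184], [0, 0, 362880, 362880, 362880, 345384], [34502, 1447626, 397382, 1084746, 362880, 2107290], [43353, 931818, 406233, 1294698, 362880, 2596314], [53982, 657538, 416862, 294658, 362880, 2681386], [59970, 1302741, 422850, 939861, 362880, 248805], [62634, 2430729, 425514, 1704969, 362880, 2061009], [69781, 420624, 432661, 57744, 362880, 913392], [118376, 2677783, 481256, 1952023, 362880, 1653583], [143568, 1231429, 506448, 868549, 362880, 644341], [226613, 79373, 589493, 442253, 362880, 1204157], [1121382, 570264, 758502, 207384, 362880, 2557248], [1319413, 2365013, 956533, 1639253, 362880, 2598005], [1319845, 1898352, 956965, 2624112, 362880, 178704], [1394383, 611144, 1031503,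 248264, 362880, 393848], [1417962, 2283021, 1055082, 1557261, 362880, 419661], [725933, 750333, 1088813, 1113213, 362880, 473133], [797022, 2751658, 1159902, 2025898, 362880, 415042], [822177, 2387421, 1185057, 1661661, 362880, 2437173], [936677, 2207477, 1299557, 1481717, 362880, 805277], [943594, 2749354, 1306474, 2023594, 362880, 783178], [2481514, 667114, 1755754, 304234, 362880, 1137490], [2591568, 2591568, 1865808, 1865808, 362880, 413496], [2613594, 962145, 1887834, 1325025, 362880, 1001745], [2678170, 2360096, 1952410, 1634336, 362880, 708416], [2722704, 2227560, 1996944, 1501800, 362880, 530952], [2874552, 2237128, 2148792, 1511368, 362880, 71440], [1552090, 1431058, 2277850, 1068178, 362880, 2640730], [1700733, 583013, 2426493, 220133, 362880, 79085], [1739109, 1150445, 2464869, 787565, 362880, 1395173], [1836425, 645289, 2562185, 282409, 362880, 1708297], [1844707, 1468291, 2570467, 2194051, 362880, 1779547], [1883212, 1168195, 2608972, 805315, 362880, 1481755], [2013599, 1160519, 2739359, 797639, 362880, 1262111], [0, 0, 307210, 916704, 307210, 916704]]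

/-- The steps of the contradiction. -/
def killL : List (List ℕ) := [[491530, 2, 642529, 1450391, 2108184, 2729549], [691690, 36, 2325816, 2827533, 916704, 2819746], [1575114, 21, 483350, 1763685, 805277, 205025], [536002, 16, 1593217, 2359751, 393848, 875333]]

/-- The end of the contradiction. -/
def killE : List ℕ := [280801, 369479, 793824, 2819746, 393848, 260613]

end Cfsg.Agent.Spor.Co3Uniq
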