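import Cfsg.Agent.Lib.Spor.Co3Uniq.SigChk
import Cfsg.Agent.Lib.Spor.Co3Uniq.RelData

/-! The checks of the relations between adjacent conjugates. -/

set_option autoImplicit false

namespace Cfsg.Agent.Spor.Co3Uniq

open Cos

/-- The cube of the swap times a code is a code. -/
noncomputable def chkCube (k d : ℕ) : Bool :=
  Co3Out.ptsA.all fun p =>
    force (appS (app k p)) fun q1 => force (appS (app k q1)) fun q2 => Nat.beq (appS (app k q2)) (app d p)

/-- The swap times a code does not commute with a code. -/
noncomputable def chkMove (k z : ℕ) : Bool :=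
  Co3Out.ptsA.any fun p => force (appS (app k (app z p))) fun q => !(Nat.beq q (app z (appS (app k p))))

/-- An element commuting with the third involution is one of eight or not central. -/
noncomputable def chkCenT (i : ℕ) : Bool :=
  force (bN.at i) fun N =>
    eightL.contains N || neC [N, wC] [wC, N] || tGen.any fun h => neC [N, h] [h, N]

/-- The entry of a table. -/
def ent (L : List (List ℕ)) (j k : ℕ) : ℕ := (L.getD j []).getD k 0

/-- A row of the table of adjacent pairs. -/
noncomputable def chkPair (j : ℕ) : Bool :=
  (fun k : ℕ => eqC [ent pairL j 2] [ent pairL j 0, k] && eqC [ent pairL j 0, u1C] [u1C, ent pairL j 0] &&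
      chkSig (ent pairL j 0) (ent pairL j 1) &&
      eqC [ent pairL j 3, k] [ent pairL j 1, bif Nat.beq j 36 then dC else cC] &&
      eqC [ent pairL j 5, k] [ent pairL j 1, bif Nat.beq j 36 then dC else ceC] && eqC [ent pairL j 4, k] [])
    (bif Nat.beq j 36 then betC else hC)

/-- A step of the contradiction. -/
noncomputable def chkKill (i : ℕ) : Bool :=
  Nat.blt (ent killL i 1) 37 && eqC [ent killL i 0] [ent pairL (ent killL i 1) 2, ent killL i 2] &&
    eqC [ent killL i 2, u1C] [u1C, ent killL i 2] && chkSig (ent killL i 2) (ent killL i 3) &&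
    eqC [ent killL i 4] [ent pairL (ent killL i 1) 5] &&
    eqC [ent killL i 5] [ent pairL (ent killL i 1) 4, ent killL i 3]

end Cfsg.Agent.Spor.Co3Uniq
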