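import Cfsg.Agent.Lib.Spor.Co3Uniq.Pin
import Cfsg.Agent.Lib.Spor.Co3Uniq.RelChk

/-!
The relations between adjacent conjugates: the cubes of the swap times two exchanges are as in the model.
-/

set_option autoImplicit false
set_option maxRecDepth 100000
set_option maxHeartbeats 2000000

namespace Cfsg.Agent.Spor.Co3Uniq

open Cos Cos.Co3Out

theorem sigM_mul_sigM (a : M) : sigM * (sigM * a) = a := by rw [← mul_assoc, sigM_sq, one_mul]

theorem sigM_conj {a b : ℕ} (h : chkSig a b = true) : sigM * el a * sigM = el b := by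
  rw [sigM_carry h, mul_assoc, sigM_sq, mul_one]

theorem cube_apply {k d : ℕ} (h : chkCube k d = true) : (sigM * el k) * ((sigM * el k) * (sigM * el k)) = el d := by
  refine (inv_mul_eq_one.1 (det ((el d)⁻¹ * _) fun q hq => ?_)).symm
  rw [map_mul, map_inv, Equiv.Perm.mul_apply, Equiv.Perm.inv_eq_iff_eq]
  refine Fin.ext ?_
  have := List.all_eq_true.1 h _ hq
  simp only [force_eq, Nat.beq_eq] at this
  simp only [map_mul, Equiv.Perm.mul_apply, sigM_apply, el_apply]
  exact this

theorem move_ne {k z : ℕ} (h : chkMove k z = true) : sigM * el k * el z ≠ el z * (sigM * el k) := by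
  intro e
  obtain ⟨p, hp, hne⟩ := List.any_eq_true.1 h
  have hlt : p < actA.N := pts_lt p hp
  have := congrArg (fun y => (pi y ⟨p, hlt⟩ : ℕ)) e
  simp only [map_mul, Equiv.Perm.mul_apply, sigM_apply, el_apply] at this
  rw [force_eq, this, Nat.beq_refl] at hne
  exact Bool.noConfusion hne

theorem cube_move {P : Type*} [Group P] {y a b c d : P} (h1 : y * a = b * y) (h2 : y * b = c * y)
    (h3 : y * c = d * y) : y * y * y * a = d * (y * y * y) := by
  calc y * y * y * a = y * y * (y * a) := mul_assoc _ _ _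
    _ = y * (y * b) * y := by rw [h1]; simp only [mul_assoc]
    _ = y * c * y * y := by rw [h2]; simp only [mul_assoc]
    _ = _ := by rw [h3]; simp only [mul_assoc]

/-- A group with a copy of the centraliser and a swap satisfying the relations of adjacent pairs. -/
structure Rels (P : Type*) [Group P] where
  /-- the copy -/
  Ψ : C →* P
  /-- the swap -/
  X : P
  sq : X * X = 1
  conj : ∀ (b : C) (hb : b.1 * e1 = e1 * b.1), X * Ψ b = Ψ ⟨sigM * b.1 * sigM, Sys.sigM_mem hb⟩ * X
  cube_h : X * Ψ (cel hC) * (X * Ψ (cel hC)) * (X * Ψ (cel hC)) = Ψ (cel cC)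
  cube_b : X * Ψ (cel betC) * (X * Ψ (cel betC)) * (X * Ψ (cel betC)) = Ψ (cel dC)

namespace Rels

variable {P : Type*} [Group P] (R : Rels P)

/-- An element by its code. -/
noncomputable def E (N : ℕ) : P := R.Ψ (cel N)

theorem eq_of_chk {L L' : List ℕ} (h : eqC L L' = true) : (L.map R.E).prod = (L'.map R.E).prod := by
  have key : ∀ L : List ℕ, (L.map R.E).prod = R.Ψ ((L.map cel).prod) := fun L => by
    rw [map_list_prod, List.map_map]
    rfl
  rw [key, key]
  exact congrArg R.Ψ (Subtype.ext (by rw [Sys.coe_prod, Sys.coe_prod]; exact prod_eq h))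

theorem carry {a b : ℕ} (hb : eqC [a, u1C] [u1C, a] = true) (h : chkSig a b = true) :
    R.X * R.E a = R.E b * R.X := by
  have hb' : el a * e1 = e1 * el a := by simpa [e1] using prod_eq hb
  rw [E, R.conj (cel a) hb']
  exact congrArg (fun z => R.Ψ z * R.X) (Subtype.ext (sigM_conj h))

theorem carry' {a b : ℕ} (hb : eqC [a, u1C] [u1C, a] = true) (h : chkSig a b = true) :
    R.E a * R.X = R.X * R.E b := by
  calc R.E a * R.X = R.X * R.X * R.E a * R.X := by rw [R.sq, one_mul]
    _ = R.X * (R.E b * (R.X * R.X)) := by rw [mul_assoc R.X, R.carry hb h]; simp only [mul_assoc]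
    _ = _ := by rw [R.sq, mul_one]

theorem inner_of_cube {k : ℕ} {D : P} (h : R.X * R.E k * (R.X * R.E k) * (R.X * R.E k) = D) :
    R.X * R.E k * R.X = D * (R.E k)⁻¹ * R.X * (R.E k)⁻¹ := by
  have hX : R.X⁻¹ = R.X := inv_eq_of_mul_eq_one_right R.sq
  calc R.X * R.E k * R.X
      = R.X * R.E k * (R.X * R.E k) * (R.X * R.E k) * (R.E k)⁻¹ * R.X⁻¹ * (R.E k)⁻¹ := by group
    _ = _ := by rw [h, hX]

/-- The product through an adjacent pair, from a value of the cube. -/
theorem pair_gen {j : ℕ} {col D : ℕ}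
    (hD : R.X * R.E (bif Nat.beq j 36 then betC else hC) * (R.X * R.E (bif Nat.beq j 36 then betC else hC)) *
      (R.X * R.E (bif Nat.beq j 36 then betC else hC)) = R.E D)
    (hj : chkPair j = true)
    (hcol : eqC [ent pairL j col, bif Nat.beq j 36 then betC else hC] [ent pairL j 1, D] = true) :
    R.X * R.E (ent pairL j 2) * R.X = R.E (ent pairL j col) * R.X * R.E (ent pairL j 4) := by
  simp only [chkPair, Bool.and_eq_true] at hj
  set k := bif Nat.beq j 36 then betC else hC
  have e1' := R.eq_of_chk hj.1.1.1.1.1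
  have e2' := R.eq_of_chk hcol
  have e3' := R.eq_of_chk hj.2
  simp only [List.map_cons, List.map_nil, List.prod_cons, List.prod_nil, mul_one] at e1' e2' e3'
  rw [e1', ← mul_assoc R.X, R.carry hj.1.1.1.1.2 hj.1.1.1.2, mul_assoc (R.E (ent pairL j 1)),
    mul_assoc (R.E (ent pairL j 1)), R.inner_of_cube hD, eq_inv_of_mul_eq_one_left e3',
    eq_mul_inv_of_mul_eq e2']
  simp only [mul_assoc]

/-- The product through an adjacent pair. -/
theorem pair {j : ℕ} (hj : j < 37) :
    R.X * R.E (ent pairL j 2) * R.X = R.E (ent pairL j 3) * R.X * R.E (ent pairL j 4) := by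
  have h := List.all_eq_true.1 pair_ok j (List.mem_range.2 hj)
  refine R.pair_gen (D := bif Nat.beq j 36 then dC else cC) ?_ h ?_
  · rcases Bool.eq_false_or_eq_true (Nat.beq j 36) with e | e
    · rw [e]; exact R.cube_b
    · rw [e]; exact R.cube_h
  · simp only [chkPair, Bool.and_eq_true] at h
    exact h.1.1.2

end Rels

/-- The model with its swap. -/
noncomputable def modelRels : Rels M where
  Ψ := C.subtype
  X := sigM
  sq := sigM_sq
  conj b hb := by
    show sigM * b.1 = sigM * b.1 * sigM * sigM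
    rw [mul_assoc _ sigM sigM, sigM_sq, mul_one]
  cube_h := by
    show sigM * el hC * (sigM * el hC) * (sigM * el hC) = el cC
    rw [mul_assoc, cube_apply rel_facts.2.2.2.2.2.2.2.2.2.1]
  cube_b := by
    show sigM * el betC * (sigM * el betC) * (sigM * el betC) = el dC
    rw [mul_assoc, cube_apply rel_facts.2.2.2.2.2.2.2.2.2.2.1]

namespace Sys

universe u

variable {G : Type u} [Group G] (S : Sys G)

variable {x : G} (hx : S.Good x)
include hx

theorem good_conj {a b : ℕ} (hb : eqC [a, u1C] [u1C, a] = true) (h : chkSig a b = true) :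
    x * S.E a = S.E b * x := by
  have hb' : el a * e1 = e1 * el a := by simpa [e1] using prod_eq hb
  rw [E, hx.2.2 (cel a) hb']
  exact congrArg (fun z => S.ψ z * x) (Subtype.ext (sigM_conj h))

/-- The conjugation by the swap times a code, on elements staying in the centraliser of the pair. -/
theorem step_mul (k : C) (b : C) (hb : (k * b * k⁻¹).1 * e1 = e1 * (k * b * k⁻¹).1) :
    ∃ b' : C, b'.1 = sigM * k.1 * b.1 * (sigM * k.1)⁻¹ ∧ x * S.ψ k * S.ψ b = S.ψ b' * (x * S.ψ k) := by
  refine ⟨⟨sigM * (k * b * k⁻¹).1 * sigM, sigM_mem hb⟩, ?_, ?_⟩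
  · show sigM * (k.1 * b.1 * k.1⁻¹) * sigM = _
    rw [mul_inv_rev, show sigM⁻¹ = sigM from inv_eq_of_mul_eq_one_right sigM_sq]
    simp only [mul_assoc]
  · have h := hx.2.2 _ hb
    calc x * S.ψ k * S.ψ b = x * S.ψ (k * b * k⁻¹) * S.ψ k := by rw [map_mul, map_mul, map_inv]; group
      _ = _ := by rw [h, mul_assoc]

/-- A cube agrees with the model's up to an element centralising an invariant part. -/
theorem cube_gen (k d : C) (Q : C → Prop)
    (hQ : ∀ b, Q b → (k * b * k⁻¹).1 * e1 = e1 * (k * b * k⁻¹).1 ∧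
      ∀ b' : C, b'.1 = sigM * k.1 * b.1 * (sigM * k.1)⁻¹ → Q b')
    (hd : sigM * k.1 * (sigM * k.1 * (sigM * k.1)) = d.1) (hQd : Q d)
    (hy : x * S.ψ k * (x * S.ψ k) * (x * S.ψ k) * S.t = S.t * (x * S.ψ k * (x * S.ψ k) * (x * S.ψ k))) :
    ∃ z : C, x * S.ψ k * (x * S.ψ k) * (x * S.ψ k) = S.ψ z * S.ψ d ∧ (∀ b, Q b → z * b = b * z) ∧
      (Q z → sigM * k.1 * z.1 = z.1 * (sigM * k.1)) := by
  set y := x * S.ψ k with hydef
  set μ := sigM * k.1 with hμ
  obtain ⟨y', hy'⟩ := S.exists_of_comm hy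
  refine ⟨y' * d⁻¹, by rw [map_mul, map_inv, hy', inv_mul_cancel_right], fun b hb => ?_, fun hz => ?_⟩
  · have hdc : ∃ b' : C, Q b' ∧ d * b' * d⁻¹ = b := by
      have iter : ∀ b, Q b → ∃ b', Q b' ∧ b'.1 = μ * b.1 * μ⁻¹ ∧ y * S.ψ b = S.ψ b' * y := fun b hb => by
        obtain ⟨b', h1, h2⟩ := S.step_mul hx k b (hQ b hb).1
        exact ⟨b', (hQ b hb).2 b' h1, h1, h2⟩
      have : Finite C := Nat.finite_of_card_ne_zero (by rw [C_facts.2]; norm_num)
      -- the map is injective on a finite set, so every element is an image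
      let f : {b : C // Q b} → {b : C // Q b} := fun b => ⟨(iter b.1 b.2).choose, (iter b.1 b.2).choose_spec.1⟩
      have hf : Function.Injective f := fun a b e => by
        have ea : (f a).1.1 = μ * a.1.1 * μ⁻¹ := (iter a.1 a.2).choose_spec.2.1
        have eb : (f b).1.1 = μ * b.1.1 * μ⁻¹ := (iter b.1 b.2).choose_spec.2.1
        rw [e, eb] at ea
        exact Subtype.ext (Subtype.ext (mul_left_cancel (mul_right_cancel ea)).symm)
      have hsurj := Finite.injective_iff_surjective.1 hf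
      obtain ⟨a1, h1⟩ := hsurj ⟨b, hb⟩
      obtain ⟨a2, h2⟩ := hsurj a1
      obtain ⟨a3, h3⟩ := hsurj a2
      refine ⟨a3.1, a3.2, Subtype.ext ?_⟩
      have e : ∀ a, (f a).1.1 = μ * a.1.1 * μ⁻¹ := fun a => (iter a.1 a.2).choose_spec.2.1
      show d.1 * a3.1.1 * d.1⁻¹ = b.1
      rw [show b.1 = μ * (μ * (μ * a3.1.1 * μ⁻¹) * μ⁻¹) * μ⁻¹ by rw [← e a3, h3, ← e a2, h2, ← e a1, h1], ← hd]
      group
    obtain ⟨b', hb', e⟩ := hdc
    obtain ⟨b1, c1, c2⟩ := S.step_mul hx k b' (hQ b' hb').1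
    obtain ⟨b2, c3, c4⟩ := S.step_mul hx k b1 (hQ b1 ((hQ b' hb').2 b1 c1)).1
    obtain ⟨b3, c5, c6⟩ := S.step_mul hx k b2 (hQ b2 ((hQ b1 ((hQ b' hb').2 b1 c1)).2 b2 c3)).1
    have hb3 : b3 = b := Subtype.ext (by
      rw [c5, c3, c1, ← hμ, ← congrArg Subtype.val e]
      show _ = d.1 * b'.1 * d.1⁻¹
      rw [← hd]
      group)
    rw [hb3] at c6
    have hY : y * y * y * S.ψ b' = S.ψ b * (y * y * y) := cube_move c2 c4 c6
    refine S.inj ?_
    rw [← hy', ← map_mul, ← map_mul] at hY
    have hY' : y' * b' = b * y' := S.inj hY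
    congr 1
    rw [← e] at hY' ⊢
    calc y' * d⁻¹ * (d * b' * d⁻¹) = y' * b' * d⁻¹ := by group
      _ = _ := by rw [hY']; group
  · obtain ⟨b', h1, h2⟩ := S.step_mul hx k (y' * d⁻¹) (hQ _ hz).1
    obtain ⟨d', h3, h4⟩ := S.step_mul hx k d (hQ _ hQd).1
    have hd' : d' = d := Subtype.ext (by rw [h3, ← hμ, ← hd]; group)
    rw [hd'] at h4
    have hcomm : y * S.ψ y' = S.ψ y' * y := by rw [hy']; group
    have hzz : y * S.ψ (y' * d⁻¹) = S.ψ (y' * d⁻¹) * y := by
      have hc1 : Commute y (S.ψ d) := h4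
      rw [map_mul, map_inv]
      exact (Commute.mul_right hcomm hc1.inv_right).eq
    rw [hzz] at h2
    have : b' = y' * d⁻¹ := S.inj (mul_right_cancel h2).symm
    rw [this] at h1
    conv_rhs => rw [h1]
    rw [← hμ]
    group

theorem swap_facts : x * S.t = S.u * x ∧ x * S.u = S.t * x :=
  ⟨by rw [← hx.1.1]; group, by rw [← hx.1.2]; group⟩

theorem cube_b_eq : x * S.E betC * (x * S.E betC) * (x * S.E betC) = S.E dC := by
  obtain ⟨e1', e2'⟩ := S.swap_facts hx
  have hb1 : S.E betC * S.u = S.t * S.u * S.E betC := by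
    simpa [S.E_tCode, u, mul_assoc] using S.eq_of_chk rel_facts.2.2.2.2.1
  have hb2 : S.E betC * (S.t * S.u) = S.u * S.E betC := by
    simpa [S.E_tCode, u] using S.eq_of_chk rel_facts.2.2.2.2.2.1
  have hbt : S.E betC * S.t = S.t * S.E betC := S.comm _
  have s1 : x * S.E betC * S.t = S.u * (x * S.E betC) := by rw [mul_assoc, hbt, ← mul_assoc, e1', mul_assoc]
  have htu : S.t * S.u = S.u * S.t := (S.comm (cel u1C)).symm
  have s2 : x * S.E betC * S.u = S.t * S.u * (x * S.E betC) := by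
    rw [mul_assoc, hb1, ← mul_assoc, ← mul_assoc, e1', mul_assoc S.u, e2', ← mul_assoc, ← htu, mul_assoc]
  have s3 : x * S.E betC * (S.t * S.u) = S.t * (x * S.E betC) := by
    rw [mul_assoc, hb2, ← mul_assoc, e2', mul_assoc]
  have hy : x * S.E betC * (x * S.E betC) * (x * S.E betC) * S.t =
      S.t * (x * S.E betC * (x * S.E betC) * (x * S.E betC)) := cube_move s1 s2 s3
  have hbet1 : el betC * e1 = g 0 * e1 * el betC := by
    simpa [e1, el_tCode, mul_assoc] using prod_eq rel_facts.2.2.2.2.1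
  have hbet2 : el betC * (g 0 * e1) = e1 * el betC := by
    simpa [e1, el_tCode] using prod_eq rel_facts.2.2.2.2.2.1
  obtain ⟨z, hz, hzc, hzm⟩ := S.cube_gen hx (cel betC) (cel dC) (fun b => b.1 * e1 = e1 * b.1)
    (fun b hb => by
      have key : (el betC * b.1 * (el betC)⁻¹) * e1 = e1 * (el betC * b.1 * (el betC)⁻¹) := by
        have h' : e1 = el betC * (g 0 * e1) * (el betC)⁻¹ := by rw [hbet2, mul_inv_cancel_right]
        rw [h', show el betC * b.1 * (el betC)⁻¹ * (el betC * (g 0 * e1) * (el betC)⁻¹) =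
          el betC * (b.1 * g 0 * e1) * (el betC)⁻¹ by group, mem_C_comm b.2, mul_assoc (g 0), hb]
        group
      refine ⟨key, fun b' hb' => ?_⟩
      have hc : (el betC * b.1 * (el betC)⁻¹) * g 0 = g 0 * (el betC * b.1 * (el betC)⁻¹) :=
        mem_C_comm (mul_mem (mul_mem (el_mem _) b.2) (inv_mem (el_mem _)))
      rw [hb', ← sigM_swap.1, mul_inv_rev, show sigM⁻¹ = sigM from inv_eq_of_mul_eq_one_right sigM_sq,
        show (cel betC : C).1 = el betC from rfl]
      calc sigM * el betC * b.1 * ((el betC)⁻¹ * sigM) * (sigM * g 0 * sigM)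
          = sigM * (el betC * b.1 * (el betC)⁻¹ * g 0) * sigM := by simp only [mul_assoc, sigM_mul_sigM]
        _ = sigM * (g 0 * (el betC * b.1 * (el betC)⁻¹)) * sigM := by rw [hc]
        _ = _ := by simp only [mul_assoc, sigM_mul_sigM])
    (cube_apply rel_facts.2.2.2.2.2.2.2.2.2.2.1) (by
      show el dC * e1 = e1 * el dC
      simpa [e1] using prod_eq rel_facts.2.2.2.2.2.2.2.2.1) hy
  have hzB : z.1 * e1 = e1 * z.1 := congrArg Subtype.val (hzc (cel u1C) rfl)
  obtain ⟨i, hi, e⟩ := LG.exists_of_mem bL_ok (show 0 < 4608 by norm_num) (mem_bL z.2 hzB)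
  have hmv : ∀ N, chkMove betC N = true → z.1 ≠ el N := fun N h e' => move_ne h (by rw [← e']; exact hzm hzB)
  have h := cenB_ok i hi
  simp only [chkCenB, force_eq, Bool.or_eq_true, Nat.beq_eq, List.any_eq_true] at h
  have e' : el (bN.at i) = z.1 := e
  rcases h with (((h | h) | h) | h) | ⟨w, hw, h⟩
  · rw [h, el_zero] at e'
    rw [show S.E betC = S.ψ (cel betC) from rfl, hz, show z = 1 from Subtype.ext e'.symm, map_one, one_mul]
    rfl
  · exact absurd (h ▸ e'.symm) (hmv _ rel_facts.2.2.2.2.2.2.2.2.2.2.2.2.2.2.2.2.1)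
  · exact absurd (h ▸ e'.symm) (hmv _ rel_facts.2.2.2.2.2.2.2.2.2.2.2.2.2.2.2.2.2.1)
  · refine absurd ?_ (hmv _ rel_facts.2.2.2.2.2.2.2.2.2.2.2.2.2.2.2.2.2.2.1)
    have a := prod_eq h
    have b := prod_eq rel_facts.2.2.2.2.2.2.2.2.2.2.2.2.2.2.2.2.2.2.2.1
    simp only [List.map_cons, List.map_nil, List.prod_cons, List.prod_nil, mul_one] at a b
    rw [b, ← a, e']
  · refine absurd ?_ (prod_ne h)
    have := congrArg Subtype.val (hzc (cel w) (by
      simpa [e1, cel] using prod_eq (List.all_eq_true.1 pin_facts.2.2.2.2.1 w hw)))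
    simpa [← e', cel] using this

theorem cube_h_eq : x * S.E hC * (x * S.E hC) * (x * S.E hC) = S.E cC := by
  obtain ⟨e1', e2'⟩ := S.swap_facts hx
  have hh1 : S.E hC * S.u = S.E wC * S.E hC := by simpa [u] using S.eq_of_chk rel_facts.1
  have hh2 : S.E hC * S.E wC = S.u * S.E hC := by simpa [u] using S.eq_of_chk rel_facts.2.1
  have hxw : x * S.E wC = S.E wC * x := S.good_conj hx rel_facts.2.2.1 rel_facts.2.2.2.1
  have s1 : x * S.E hC * S.t = S.u * (x * S.E hC) := by
    rw [mul_assoc, show S.E hC * S.t = S.t * S.E hC from S.comm _, ← mul_assoc, e1', mul_assoc]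
  have s2 : x * S.E hC * S.u = S.E wC * (x * S.E hC) := by rw [mul_assoc, hh1, ← mul_assoc, hxw, mul_assoc]
  have s3 : x * S.E hC * S.E wC = S.t * (x * S.E hC) := by rw [mul_assoc, hh2, ← mul_assoc, e2', mul_assoc]
  have hy : x * S.E hC * (x * S.E hC) * (x * S.E hC) * S.t =
      S.t * (x * S.E hC * (x * S.E hC) * (x * S.E hC)) := cube_move s1 s2 s3
  have hM1 : el hC * e1 = el wC * el hC := by simpa [e1] using prod_eq rel_facts.1
  have hM2 : el hC * el wC = e1 * el hC := by simpa [e1] using prod_eq rel_facts.2.1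
  have hwu : el wC * e1 = e1 * el wC := by simpa [e1] using prod_eq rel_facts.2.2.1
  have hσw : sigM * el wC * sigM = el wC := sigM_conj rel_facts.2.2.2.1
  let Q : C → Prop := fun b => b.1 * e1 = e1 * b.1 ∧ b.1 * el wC = el wC * b.1
  obtain ⟨z, hz, hzc, hzm⟩ := S.cube_gen hx (cel hC) (cel cC) Q
    (fun b hb => by
      have k1 : el hC * b.1 * (el hC)⁻¹ * e1 = e1 * (el hC * b.1 * (el hC)⁻¹) := by
        rw [show e1 = el hC * el wC * (el hC)⁻¹ by rw [hM2, mul_inv_cancel_right],
          show el hC * b.1 * (el hC)⁻¹ * (el hC * el wC * (el hC)⁻¹) = el hC * (b.1 * el wC) * (el hC)⁻¹ by group,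
          hb.2]
        group
      have k2 : el hC * b.1 * (el hC)⁻¹ * el wC = el wC * (el hC * b.1 * (el hC)⁻¹) := by
        rw [show el wC = el hC * e1 * (el hC)⁻¹ by rw [hM1, mul_inv_cancel_right],
          show el hC * b.1 * (el hC)⁻¹ * (el hC * e1 * (el hC)⁻¹) = el hC * (b.1 * e1) * (el hC)⁻¹ by group,
          hb.1]
        group
      have k3 : el hC * b.1 * (el hC)⁻¹ * g 0 = g 0 * (el hC * b.1 * (el hC)⁻¹) :=
        mem_C_comm (mul_mem (mul_mem (el_mem _) b.2) (inv_mem (el_mem _)))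
      refine ⟨k1, fun b' hb' => ?_⟩
      have hb'' : b'.1 = sigM * (el hC * b.1 * (el hC)⁻¹) * sigM := by
        rw [hb', mul_inv_rev, show sigM⁻¹ = sigM from inv_eq_of_mul_eq_one_right sigM_sq]
        simp only [mul_assoc]
        rfl
      set c := el hC * b.1 * (el hC)⁻¹
      have conjσ : ∀ v, c * v = v * c → b'.1 * (sigM * v * sigM) = sigM * v * sigM * b'.1 := fun v hv => by
        rw [hb'']
        calc sigM * c * sigM * (sigM * v * sigM) = sigM * (c * v) * sigM := by simp only [mul_assoc, sigM_mul_sigM]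
          _ = sigM * (v * c) * sigM := by rw [hv]
          _ = _ := by simp only [mul_assoc, sigM_mul_sigM]
      exact ⟨by simpa only [sigM_swap.1] using conjσ _ k3, by simpa only [hσw] using conjσ _ k2⟩)
    (cube_apply rel_facts.2.2.2.2.2.2.2.2.2.1)
    ⟨by simpa [e1, cel] using prod_eq rel_facts.2.2.2.2.2.2.1,
      by simpa [cel] using prod_eq rel_facts.2.2.2.2.2.2.2.1⟩ hy
  have hzB : z.1 * e1 = e1 * z.1 := congrArg Subtype.val (hzc (cel u1C) ⟨rfl, hwu.symm⟩)
  have hzw : z.1 * el wC = el wC * z.1 := congrArg Subtype.val (hzc (cel wC) ⟨hwu, rfl⟩)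
  obtain ⟨i, hi, e⟩ := LG.exists_of_mem bL_ok (show 0 < 4608 by norm_num) (mem_bL z.2 hzB)
  have e' : el (bN.at i) = z.1 := e
  have h := cenT_ok i hi
  simp only [chkCenT, force_eq, Bool.or_eq_true, List.contains_iff_mem, List.any_eq_true] at h
  rcases h with (h | h) | ⟨w, hw, h⟩
  · obtain ⟨j, hjl, ej⟩ := List.mem_iff_getElem.1 h
    have hj : j < 8 := lt_of_lt_of_eq hjl rel_facts.2.2.2.2.2.2.2.2.2.2.2.2.2.2.1
    have ej' : eightL.getD j 0 = bN.at i := (List.getD_eq_getElem eightL 0 hjl).trans ej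
    have ej1 : eightL.getD j 1 = bN.at i := (List.getD_eq_getElem eightL 1 hjl).trans ej
    rcases Nat.eq_zero_or_pos j with rfl | hpos
    · rw [rel_facts.2.2.2.2.2.2.2.2.2.2.2.2.1] at ej1
      rw [← ej1, el_zero] at e'
      rw [show S.E hC = S.ψ (cel hC) from rfl, hz, show z = 1 from Subtype.ext e'.symm, map_one, one_mul]
      rfl
    rcases Nat.lt_or_ge j 7 with hj7 | hj7
    · have hm := List.all_eq_true.1 rel_facts.2.2.2.2.2.2.2.2.2.2.2.2.2.2.2.1 (j - 1) (List.mem_range.2 (by omega))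
      rw [show j - 1 + 1 = j by omega, ej'] at hm
      exact absurd (by rw [e']; exact hzm ⟨hzB, hzw⟩) (move_ne hm)
    -- the cube twisted by the product of the three involutions is contradictory
    exfalso
    obtain rfl : j = 7 := by omega
    rw [rel_facts.2.2.2.2.2.2.2.2.2.2.2.2.2.1] at ej'
    have hbad : x * S.E hC * (x * S.E hC) * (x * S.E hC) = S.E ceC := by
      have hce : S.E ceC = S.E eC * S.E cC := by
        simpa using S.eq_of_chk rel_facts.2.2.2.2.2.2.2.2.2.2.2.2.2.2.2.2.2.2.2.2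
      rw [hce, show S.E hC = S.ψ (cel hC) from rfl, hz, show z = cel eC from Subtype.ext (ej' ▸ e'.symm)]
      rfl
    have pr : ∀ j < 37, x * S.E (ent pairL j 2) * x = S.E (ent pairL j 5) * x * S.E (ent pairL j 4) := fun j hj => by
      have h := List.all_eq_true.1 pair_ok j (List.mem_range.2 hj)
      simp only [chkPair, Bool.and_eq_true] at h
      obtain ⟨⟨⟨⟨⟨a1, a2⟩, a3⟩, -⟩, a5⟩, a6⟩ := h
      have e1 := S.eq_of_chk a1
      have e5 := S.eq_of_chk a5
      have e6 := S.eq_of_chk a6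
      simp only [List.map_cons, List.map_nil, List.prod_cons, List.prod_nil, mul_one] at e1 e5 e6
      set k := bif Nat.beq j 36 then betC else hC with hk
      have hcube : x * S.E k * (x * S.E k) * (x * S.E k) = S.E (bif Nat.beq j 36 then dC else ceC) := by
        rcases Bool.eq_false_or_eq_true (Nat.beq j 36) with e | e
        · rw [hk, e]; exact S.cube_b_eq hx
        · rw [hk, e]; exact hbad
      have hX : x⁻¹ = x := inv_eq_of_mul_eq_one_right hx.2.1
      rw [e1, ← mul_assoc x, S.good_conj hx a2 a3, eq_inv_of_mul_eq_one_left e6, eq_mul_inv_of_mul_eq e5, ← hcube]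
      calc S.E (ent pairL j 1) * x * S.E k * x
          = S.E (ent pairL j 1) * (x * S.E k * (x * S.E k) * (x * S.E k)) * (S.E k)⁻¹ * x⁻¹ * (S.E k)⁻¹ := by group
        _ = _ := by rw [hX]
    have st : ∀ i < 4, x * S.E (ent killL i 0) * x = S.E (ent killL i 4) * x * S.E (ent killL i 5) := fun i hi => by
      have h := List.all_eq_true.1 kill_facts.1 i (List.mem_range.2 hi)
      simp only [chkKill, Bool.and_eq_true] at h
      obtain ⟨⟨⟨⟨⟨a0, a1⟩, a2⟩, a3⟩, a4⟩, a5⟩ := h
      have e1 := S.eq_of_chk a1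
      have e4 := S.eq_of_chk a4
      have e5 := S.eq_of_chk a5
      simp only [List.map_cons, List.map_nil, List.prod_cons, List.prod_nil, mul_one] at e1 e4 e5
      have ec : S.E (ent killL i 2) * x = x * S.E (ent killL i 3) := by
        calc S.E (ent killL i 2) * x = x * (x * S.E (ent killL i 2)) * x := by rw [← mul_assoc, hx.2.1, one_mul]
          _ = x * (S.E (ent killL i 3) * (x * x)) := by rw [S.good_conj hx a2 a3]; simp only [mul_assoc]
          _ = _ := by rw [hx.2.1, mul_one]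
      rw [e1, e4, e5, mul_assoc x (_ * _) x, mul_assoc (S.E _) (S.E _) x, ec, ← mul_assoc, ← mul_assoc,
        pr _ (Nat.le_of_ble_eq_true a0)]
      simp only [mul_assoc]
    obtain ⟨-, k1, k2, k3, k4, k5, k6, k7, k8, k9⟩ := kill_facts
    have f1 := S.eq_of_chk k1
    have f2 := S.eq_of_chk k2
    have f3 := S.eq_of_chk k3
    have f4 := S.eq_of_chk k4
    have f5 := S.eq_of_chk k5
    have f6 := S.eq_of_chk k6
    simp only [List.map_cons, List.map_nil, List.prod_cons, List.prod_nil, mul_one] at f1 f2 f3 f4 f5 f6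
    set w0 := x * S.E (ent killL 0 0) * x * S.E (ent killL 2 0) * x with hw0
    have r1 : w0 = S.E (killE.getD 2 0) * x * (S.E (killE.getD 0 0) * S.E (killE.getD 5 0)) := by
      rw [hw0, st 0 (by omega), show S.E (ent killL 0 4) * x * S.E (ent killL 0 5) * S.E (ent killL 2 0) * x =
        S.E (ent killL 0 4) * (x * (S.E (ent killL 0 5) * S.E (ent killL 2 0)) * x) by simp only [mul_assoc],
        ← f1, st 1 (by omega), ← f4, f3]
      simp only [mul_assoc]
    have r2 : w0 = S.E (killE.getD 4 0) * x * S.E (killE.getD 5 0) := by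
      rw [hw0, show x * S.E (ent killL 0 0) * x * S.E (ent killL 2 0) * x =
        x * S.E (ent killL 0 0) * (x * S.E (ent killL 2 0) * x) by simp only [mul_assoc], st 2 (by omega),
        show x * S.E (ent killL 0 0) * (S.E (ent killL 2 4) * x * S.E (ent killL 2 5)) =
          x * (S.E (ent killL 0 0) * S.E (ent killL 2 4)) * x * S.E (ent killL 2 5) by simp only [mul_assoc],
        ← f2, st 3 (by omega), f5, f6]
      simp only [mul_assoc]
    refine S.ne_of_chk k9 ?_
    simp only [List.map_cons, List.map_nil, List.prod_cons, List.prod_nil, mul_one]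
    have := r1.symm.trans r2
    rw [← mul_assoc _ (S.E (killE.getD 0 0)), mul_assoc _ x (S.E (killE.getD 0 0)),
      S.good_conj hx k7 k8, ← mul_assoc] at this
    exact mul_right_cancel (mul_right_cancel this)
  · exact absurd (by simpa [← e'] using hzw) (prod_ne h)
  · refine absurd ?_ (prod_ne h)
    have ht := List.all_eq_true.1 rel_facts.2.2.2.2.2.2.2.2.2.2.2.1 w hw
    rw [Bool.and_eq_true] at ht
    have := congrArg Subtype.val (hzc (cel w)
      ⟨by simpa [e1, cel] using prod_eq ht.1, by simpa [cel] using prod_eq ht.2⟩)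
    simpa [← e', cel] using this

/-- The relations hold in the group. -/
noncomputable def rels : Rels G where
  Ψ := S.ψ
  X := x
  sq := hx.2.1
  conj := hx.2.2
  cube_h := S.cube_h_eq hx
  cube_b := S.cube_b_eq hx

end Sys

end Cfsg.Agent.Spor.Co3Uniq
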